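import Cfsg.Agent.Fusion.HGen.Extend

/-!
The saturation criterion for a system generated and saturated on a family of subgroups.
-/

set_option autoImplicit false
set_option linter.style.haveILetI false

open Cfsg Cfsg.FusionSystem

namespace CfsgLib.Fusion

variable {Ω : Type*} [Group Ω] {S : Subgroup Ω} {F : FusionSystem S}

/-- The class of a fully normalized subgroup outside the family has a good member. -/
theorem class_good [Finite S] (p : ℕ) [Fact p.Prime] (hS : IsPGroup p S)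
    (ℋ : Set (Subgroup Ω))
    (hgen : ∀ E : FusionSystem S, (∀ U ∈ ℋ, F.Hom U ⊆ E.Hom U) → F ≤ E)
    {P : Subgroup Ω} (hlt : P < S) (hnot : ∀ A, F.IsConj P A → A ∉ ℋ)
    (hfn : F.IsFullyNormalized P) (hbig : BigGood F p P)
    (hstar : F.IsCentric P → ∃ Q, F.IsConj P Q ∧ ¬ (autInducedBy S Q ⊓ coreAut F p Q ≤ Inn Q)) :
    ∃ Z, F.IsConj P Z ∧ F.IsFullyAutomized p Z ∧ F.IsReceptive Z := by
  have hP := hlt.le
  have hlink : ∀ A, F.IsConj P A → Link F P A := fun A hA =>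
    exists_link p hS ℋ hgen hlt hnot hfn hbig hA
  let H := hat F p P
  have hHS : H ≤ S := hat_le_normalizerIn.trans (normalizerIn_le_S P)
  have hPH : P < H := lt_hat p hS hP hstar hlink
  have hNH : normalizerIn S P ≤ normalizerIn S H ⊓ normalizerIn S P := fun u hu =>
    ⟨⟨hu.1, normalizerIn_le_normalizer_hat p hP hu⟩, hu⟩
  have hHN : H ≤ normalizerIn S P := hat_le_normalizerIn
  obtain ⟨G, hG, hGa, hGr⟩ := hbig H hHS (card_lt_of_lt hHS hPH)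
  have hGS := hGr.1
  obtain ⟨f, hf, hfi⟩ := isConj_iff_mor.1 hG
  obtain ⟨X, hX⟩ := hf.exists_im hPH.le
  have hXG : X ≤ G := fun y hy => by
    obtain ⟨x, hx, rfl⟩ := hX.surj hy
    exact hfi.mem (hPH.le hx)
  obtain ⟨c, Z, T, hc, hci, hcX, hZG, hT⟩ := exists_sylow_stab p hS hGa hXG
  obtain ⟨g, -, hg₀, hgP, hgH, -⟩ := climb p hS hGr hf hfi hPH.le
    (hHN.trans inf_le_right) hX hc hci hcX T hT
  have hg : Mor F (normalizerIn S P) g := hg₀.mono hNH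
  have hPN := le_normalizerIn (S := S) hP
  have hPZ : F.IsConj P Z := hg.isConj hPN hgP
  have hZS := IsConj.le_right hPZ
  haveI : Finite Z := finite_of_le hZS
  haveI : Finite (MulAut Z) := finite_mulAut
  haveI : Finite G := finite_of_le hGS
  haveI : Finite (MulAut G) := finite_mulAut
  have hgN : Im g (normalizerIn S P) (normalizerIn S Z) := by
    obtain ⟨V, hV⟩ := hg.exists_im le_rfl
    have hle : V ≤ normalizerIn S Z := hg.im_le_normalizerIn hV hPN le_rfl hgP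
    rwa [eq_of_le_of_card_le (normalizerIn_le_S Z) hle
      ((hfn.2 Z hPZ).trans_eq (hg.card_im le_rfl hV).symm)] at hV
  have hNZ : ∀ u ∈ normalizerIn S Z, u ∈ normalizerIn S G := fun u hu => by
    obtain ⟨v, hv, rfl⟩ := hgN.surj hu
    exact hg.mem_normalizerIn hHN hgH hv (normalizerIn_le_normalizer_hat p hP hv)
  let ρ : stabAut F G Z →* F.autGroup Z := restrictAut F hGS hZG
  obtain ⟨gh, hgh, hghi, hghZ, -, hgh2⟩ :=
    (hg.mono hHN).exists_inv_restrict hgH hPH.le hgP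
  have hρ : Function.Surjective ρ := fun β => by
    obtain ⟨fβ, hfβ, hfβi, hfβe⟩ := exists_mor_of_aut hZS β.2
    obtain ⟨γ, hγ, hγe⟩ := aut_extend p hS ℋ hgen hlt hnot hbig hlink
      (β := gh ∘ fβ ∘ g)
      (((hg.mono hPN).comp hfβ fun x hx => hgP.mem hx).comp (hgh.mono hZG)
        fun x hx => hfβi.mem (hgP.mem hx))
      ((hgP.comp hfβi).comp hghZ)
    have hγP : Im γ P P := ((hgP.comp hfβi).comp hghZ).congr hγe
    have hγH := hγ.im_hat p hS hP hγP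
    obtain ⟨α, hα, hαe⟩ := ((hgh.comp hγ fun x hx => hghi.mem hx).comp (hg.mono hHN)
      fun x hx => hγH.mem (hghi.mem hx)).exists_aut le_rfl ((hghi.comp hγH).comp hgH)
    refine ⟨⟨⟨α, hα⟩, mem_stabAut_of_im hZG ((hghZ.comp hγP).comp hgP) hαe⟩,
      Subtype.ext (MulEquiv.ext fun z => Subtype.ext ?_)⟩
    rw [coe_restrictAut]
    show ((α ⟨z, hZG z.2⟩ : G) : Ω) = _
    rw [hαe]
    show g (γ (gh z)) = _
    rw [hγe _ (hghZ.mem z.2)]
    show g (gh (fβ (g (gh z)))) = _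
    rw [hgh2 _ (hZG z.2), hgh2 _ (hZG (hfβi.mem z.2))]
    exact hfβe z
  have hρT : (T : Subgroup (stabAut F G Z)).map ρ =
      (autInducedBy S Z).subgroupOf (F.autGroup Z) := by
    refine le_antisymm ?_ fun q hq => ?_
    · rintro _ ⟨t, ht, rfl⟩
      obtain ⟨h, hh, he⟩ := mem_innerStab.1 (hT.le ht)
      exact mem_autInducedBy.2 ⟨h, hh, fun z => he ⟨z, hZG z.2⟩⟩
    · obtain ⟨u, hu, hue⟩ := mem_autInducedBy.1 (Subgroup.mem_subgroupOf.1 hq)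
      have huZ : u ∈ normalizerIn S Z := ⟨hu, mem_normalizer_of_aut hue⟩
      obtain ⟨t, ht, hte⟩ := exists_conj_stab (F := F) hGS (hNZ u huZ) huZ.2
      exact ⟨t, hT.ge ht, Subtype.ext (MulEquiv.ext fun z => Subtype.ext
        ((hte ⟨z, hZG z.2⟩).trans (hue z).symm))⟩
  refine ⟨Z, hPZ, ⟨hZS, T.mapSurjective hρ, hρT⟩, hZS, fun Q φ hφ hr => ?_⟩
  -- receptivity
  have hQS := le_of_mem_hom hφ
  have hQ : F.IsConj P Q := isConj_trans hPZ (isConj_symm ⟨φ, hφ, hr⟩)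
  obtain ⟨νQ, hνQ, hνQi⟩ := hlink Q hQ
  have hQN := le_normalizerIn (S := S) hQS
  have hθ : Mor F (normalizerIn S Q) (g ∘ νQ) :=
    hνQ.comp hg fun x hx => hνQ.mem_normalizerIn hQN hνQi hx hx.2
  have hθQ : Im (g ∘ νQ) Q Z := hνQi.comp hgP
  have hθN : ∀ x ∈ normalizerIn S Q, (g ∘ νQ) x ∈ normalizerIn S Z := fun x hx =>
    hθ.mem_normalizerIn hQN hθQ hx hx.2
  obtain ⟨fφ, hfφ, hfφe⟩ := Mor.of_mem hφ
  obtain ⟨θ', hθ', hθ'i, hθ'1, -⟩ := (hθ.mono hQN).exists_inv hθQ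
  have hfφi : Im fφ Q Z := fun y => by
    rw [← hr]
    exact ⟨fun ⟨x, e⟩ => ⟨x, x.2, (hfφe x).trans e⟩,
      fun ⟨x, hx, e⟩ => ⟨⟨x, hx⟩, (hfφe ⟨x, hx⟩).symm.trans e⟩⟩
  obtain ⟨δ, hδ, hδe⟩ := (hθ'.comp hfφ fun x hx => hθ'i.mem hx).exists_aut le_rfl
    (hθ'i.comp hfφi)
  obtain ⟨d, hd⟩ := hρ ⟨δ, hδ⟩
  have hdz : ∀ (z : Ω) (hz : z ∈ Z),
      ((((d : F.autGroup G) : MulAut G) ⟨z, hZG hz⟩ : G) : Ω) = fφ (θ' z) := fun z hz => by
    have h1 := congrArg (fun q : F.autGroup Z => (((q : MulAut Z) ⟨z, hz⟩ : Z) : Ω)) hd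
    exact h1.trans (hδe ⟨z, hz⟩)
  have hEN : extender S Q φ ≤ normalizerIn S Q := extender_le_normalizerIn Q φ
  obtain ⟨N', hN'⟩ := hθ.exists_im hEN
  have hN'Z : N' ≤ normalizerIn S Z := fun y hy => by
    obtain ⟨x, hx, rfl⟩ := hN'.surj hy
    exact hθN x (hEN hx)
  let Φ : N' →* stabAut F G Z :=
    (((conjAut S G).comp (Subgroup.inclusion fun u hu => hNZ u (hN'Z hu))).codRestrict
      (F.autGroup G) fun u => autInducedBy_le_autGroup hGS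
        (mem_autInducedBy.2 ⟨u, (hN'Z u.2).1, fun _ => rfl⟩)).codRestrict (stabAut F G Z)
      fun u x => Subgroup.mem_normalizer_iff.1 (hN'Z u.2).2 x
  let M : Subgroup (stabAut F G Z) := ((autInducedBy S Z).subgroupOf (F.autGroup Z)).comap ρ
  have hTM : (T : Subgroup (stabAut F G Z)) ≤ M := fun t ht => hρT.le ⟨t, ht, rfl⟩
  have hB : ∀ u, d * Φ u * d⁻¹ ∈ M := by
    rintro ⟨y, hy⟩
    obtain ⟨n, hn, rfl⟩ := hN'.surj hy
    obtain ⟨hnS, hnQ, h, hhS, hh⟩ := mem_extender.1 hn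
    refine mem_autInducedBy.2 ⟨h, hhS, fun z => ?_⟩
    obtain ⟨x, hx, hxz⟩ := hfφi.surj z.2
    have hθx : (g ∘ νQ) x ∈ Z := hθQ.mem hx
    have hnx : n * x * n⁻¹ ∈ Q := (Subgroup.mem_normalizer_iff.1 hnQ x).1 hx
    have h2 : (⟨z, hZG z.2⟩ : G) = ((d : F.autGroup G) : MulAut G) ⟨_, hZG hθx⟩ :=
      Subtype.ext (by rw [hdz _ hθx, hθ'1 x hx]; exact hxz.symm)
    show ((((d : F.autGroup G) : MulAut G) (((Φ ⟨(g ∘ νQ) n, hy⟩ : F.autGroup G) : MulAut G)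
      (((d : F.autGroup G) : MulAut G)⁻¹ ⟨z, hZG z.2⟩)) : G) : Ω) = _
    rw [h2, MulAut.inv_apply_self]
    have h3 : ((Φ ⟨(g ∘ νQ) n, hy⟩ : F.autGroup G) : MulAut G) ⟨_, hZG hθx⟩ =
        ⟨(g ∘ νQ) (n * x * n⁻¹), hZG (hθQ.mem hnx)⟩ :=
      Subtype.ext (hθ.map_conj (hEN hn) (hQN hx)).symm
    rw [h3, hdz _ (hθQ.mem hnx), hθ'1 _ hnx, ← hxz, hfφe ⟨_, hnx⟩, hfφe ⟨x, hx⟩]
    exact hh ⟨x, hx⟩ hnx
  have hBp : IsPGroup p ((Φ.range.map (MulAut.conj d).toMonoidHom).subgroupOf M) := by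
    refine IsPGroup.comap_of_injective ?_ _ M.subtype_injective
    refine IsPGroup.map ?_ _
    exact (isPGroup_of_le hS (hN'Z.trans (normalizerIn_le_S Z))).of_surjective _
      Φ.rangeRestrict_surjective
  obtain ⟨T₁, hT₁⟩ := hBp.exists_le_sylow
  obtain ⟨k, hk⟩ := MulAction.exists_smul_eq M T₁ (T.subtype hTM)
  obtain ⟨t, ht, hte⟩ : ∃ t ∈ (T : Subgroup (stabAut F G Z)), ρ t = ρ k := hρT.ge k.2
  let e : stabAut F G Z := t⁻¹ * k * d
  have he : ρ e = ρ d := by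
    show ρ (t⁻¹ * k * d) = ρ d
    rw [map_mul, map_mul, map_inv, hte, inv_mul_cancel, one_mul]
  have heT : ∀ u, e * Φ u * e⁻¹ ∈ (T : Subgroup (stabAut F G Z)) := fun u => by
    have h1 : k * ⟨_, hB u⟩ * k⁻¹ ∈ (T.subtype hTM : Subgroup M) := by
      rw [← hk, Sylow.coe_subgroup_smul]
      exact ⟨_, hT₁ (show (⟨_, hB u⟩ : M) ∈ (Φ.range.map (MulAut.conj d).toMonoidHom).subgroupOf M
        from ⟨_, ⟨u, rfl⟩, rfl⟩), rfl⟩
    have h2 : (k : stabAut F G Z) * (d * Φ u * d⁻¹) * (k : stabAut F G Z)⁻¹ ∈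
        (T : Subgroup (stabAut F G Z)) := h1
    have : e * Φ u * e⁻¹ =
        t⁻¹ * ((k : stabAut F G Z) * (d * Φ u * d⁻¹) * (k : stabAut F G Z)⁻¹) * t := by
      show (t⁻¹ * k * d) * Φ u * (t⁻¹ * k * d)⁻¹ = _
      group
    rw [this]
    exact mul_mem (mul_mem (inv_mem ht) h2) ht
  obtain ⟨fe, hfe, hfei, -, hfee⟩ := stabAut_mor hGS hZG e
  obtain ⟨e', he', he'e⟩ := receptive_mor (N := N') hGr hfe hfei fun u hu => by
    refine ⟨(hN'Z hu).1, (hNZ u (hN'Z hu)).2, ?_⟩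
    obtain ⟨h, hhS, hh⟩ := mem_innerStab.1 (hT.le (heT ⟨u, hu⟩))
    refine ⟨h, hhS, fun x hx => ?_⟩
    have hux : u * x * u⁻¹ ∈ G := (Subgroup.mem_normalizer_iff.1 (hNZ u (hN'Z hu)).2 x).1 hx
    rw [hfee ⟨x, hx⟩, hfee ⟨_, hux⟩, ← hh]
    show _ = (((((e : F.autGroup G) : MulAut G) (((Φ ⟨u, hu⟩ : F.autGroup G) : MulAut G)
      (((e : F.autGroup G) : MulAut G)⁻¹ (((e : F.autGroup G) : MulAut G) ⟨x, hx⟩)))) : G) : Ω)
    rw [MulAut.inv_apply_self]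
    rfl
  obtain ⟨ψ, hψ, hψe⟩ := (hθ.mono hEN).comp he'
    fun x hx => Subgroup.mem_sup_left (hN'.mem hx)
  refine ⟨ψ, hψ, fun x hx hxE => ?_⟩
  refine (hψe ⟨x, hxE⟩).trans ?_
  show e' ((g ∘ νQ) x) = φ ⟨x, hx⟩
  have hθx : (g ∘ νQ) x ∈ Z := hθQ.mem hx
  rw [he'e _ (hZG hθx), hfee ⟨_, hZG hθx⟩]
  have h4 := congrArg (fun q : F.autGroup Z => (((q : MulAut Z) ⟨_, hθx⟩ : Z) : Ω)) he
  refine h4.trans ((hdz _ hθx).trans ?_)
  rw [hθ'1 x hx]
  exact hfφe ⟨x, hx⟩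

/-- A system generated and saturated on a conjugacy-closed family is saturated when every centric
subgroup outside the family has a conjugate `Q` with `Aut_S(Q) ∩ O_p(Aut_F(Q))` not inner. -/
theorem saturated_of_family [Finite S] (p : ℕ) [Fact p.Prime] (hS : IsPGroup p S)
    (F : FusionSystem S) (ℋ : Set (Subgroup Ω))
    (hℋconj : ∀ P ∈ ℋ, ∀ Q, F.IsConj P Q → Q ∈ ℋ)
    (hsat : ∀ P ∈ ℋ, ∃ Q, F.IsConj P Q ∧ F.IsFullyAutomized p Q ∧ F.IsReceptive Q)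
    (hgen : ∀ E : FusionSystem S, (∀ P ∈ ℋ, F.Hom P ⊆ E.Hom P) → F ≤ E)
    (hstar : ∀ P : Subgroup Ω, F.IsCentric P → P ∉ ℋ →
      ∃ Q, F.IsConj P Q ∧ ¬ (autInducedBy S Q ⊓ coreAut F p Q ≤ Inn Q)) :
    F.IsSaturated p := by
  intro U
  induction hn : Nat.card S - Nat.card U using Nat.strong_induction_on generalizing U with
  | _ n IH =>
  subst hn
  intro hUS
  obtain ⟨P, hUP, hfn⟩ := exists_fullyNormalized F hUS
  by_cases hPH : P ∈ ℋ
  · obtain ⟨Q, hQ, h1, h2⟩ := hsat P hPH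
    exact ⟨Q, isConj_trans hUP hQ, h1, h2⟩
  have hlt : P < S := by
    refine lt_of_le_of_ne hfn.1 fun e => ?_
    subst e
    obtain ⟨Q, hQ, hne⟩ := hstar P isCentric_S hPH
    obtain ⟨φ, hφ, rfl⟩ := hQ
    rw [range_eq_S hφ] at hne
    exact hne (inf_le_left.trans (inn_eq_autInducedBy P).ge)
  have hbig : BigGood F p P := fun V hV hc => by
    have := card_le_of_le le_rfl hV
    exact IH _ (by rw [IsConj.card_eq hUP] at hc; omega) V rfl hV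
  obtain ⟨Z, hZ, h1, h2⟩ := class_good p hS ℋ hgen hlt
    (fun A hA hAH => hPH (hℋconj A hAH P (isConj_symm hA))) hfn hbig fun hc => hstar P hc hPH
  exact ⟨Z, isConj_trans hUP hZ, h1, h2⟩

end CfsgLib.Fusion
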