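import Cfsg.Agent.Fusion.HGen.Stab

/-!
Properties of the maps between the members of one conjugacy class, in a system generated by the
maps out of a family of subgroups avoiding the class; enlarging the source of a map.
-/

set_option autoImplicit false
set_option linter.style.haveILetI false

open Cfsg Cfsg.FusionSystem

namespace CfsgLib.Fusion

variable {Ω : Type*} [Group Ω] {S : Subgroup Ω} {F : FusionSystem S}

theorem lt_of_card_lt [Finite S] {A R : Subgroup Ω} (hA : A ≤ S) (h : A ≤ R)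
    (hc : Nat.card A < Nat.card R) : A < R :=
  lt_of_le_of_ne h fun e => hc.ne (by rw [e])

theorem card_lt_of_lt [Finite S] {A R : Subgroup Ω} (hR : R ≤ S) (h : A < R) :
    Nat.card A < Nat.card R :=
  lt_of_not_ge fun hge => h.ne (eq_of_le_of_card_le hR h.le hge)

theorem member_lt_normalizer [Finite S] (p : ℕ) [Fact p.Prime] (hS : IsPGroup p S)
    {P A : Subgroup Ω} (hlt : P < S) (hA : F.IsConj P A) : A < normalizerIn S A := by
  have hAS := IsConj.le_right hA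
  refine lt_normalizerIn p hS le_rfl (lt_of_card_lt hAS hAS ?_)
  rw [IsConj.card_eq hA]
  exact card_lt_of_lt le_rfl hlt

/-- A property of maps between the members of the class of `P` that holds for the maps extending
strictly inside the normalizer and passes to composites and inverses holds for all of them, when
`F` is generated by the maps out of a family of subgroups not conjugate to `P`. -/
theorem class_induction [Finite S] (p : ℕ) [Fact p.Prime] (hS : IsPGroup p S)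
    (ℋ : Set (Subgroup Ω))
    (hgen : ∀ E : FusionSystem S, (∀ U ∈ ℋ, F.Hom U ⊆ E.Hom U) → F ≤ E)
    {P : Subgroup Ω} (hlt : P < S) (hnot : ∀ A, F.IsConj P A → A ∉ ℋ)
    (Pr : Subgroup Ω → (Ω → Ω) → Prop)
    (hcongr : ∀ A f g, F.IsConj P A → (∀ x ∈ A, g x = f x) → Pr A f → Pr A g)
    (hcomp : ∀ A B f g, F.IsConj P A → Mor F A f → Im f A B → Mor F B g → Pr A f → Pr B g →
      Pr A (g ∘ f))
    (hinv : ∀ A B f g, F.IsConj P A → Mor F A f → Im f A B → Mor F B g → Im g B A →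
      (∀ x ∈ A, g (f x) = x) → (∀ y ∈ B, f (g y) = y) → Pr A f → Pr B g)
    (hedge : ∀ A R f, F.IsConj P A → A < R → R ≤ normalizerIn S A → Mor F R f → Pr A f) :
    ∀ A f, F.IsConj P A → Mor F A f → Pr A f := by
  let E : FusionSystem S :=
    { Hom := fun U => {φ | φ ∈ F.Hom U ∧
        ∀ f : Ω → Ω, (∀ x : U, φ x = f x) → ∀ A, F.IsConj P A → A ≤ U → Pr A f}
      le_of_mem := fun h => F.le_of_mem h.1
      injective_of_mem := fun h => F.injective_of_mem h.1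
      conj_mem := fun {U g} hU hg => by
        refine ⟨F.conj_mem hU hg, fun f hf A hA hAU => ?_⟩
        refine hcongr A (fun x => g * x * g⁻¹) f hA (fun x hx => (hf ⟨x, hAU hx⟩).symm) ?_
        exact hedge A _ _ hA (member_lt_normalizer p hS hlt hA) le_rfl
          (Mor.conj_mor (normalizerIn_le_S A) hg)
      comp_mem := fun {U V φ ψ} hφ hψ h => by
        refine ⟨F.comp_mem hφ.1 hψ.1 h, fun f hf A hA hAU => ?_⟩
        obtain ⟨f₁, hf₁, e₁⟩ := Mor.of_mem hφ.1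
        obtain ⟨f₂, hf₂, e₂⟩ := Mor.of_mem hψ.1
        obtain ⟨B, hB⟩ := hf₁.exists_im hAU
        have hBV : B ≤ V := fun y hy => by
          obtain ⟨x, hx, rfl⟩ := hB.surj hy
          rw [e₁ ⟨x, hAU hx⟩]
          exact h _
        have hAB : F.IsConj P B := isConj_trans hA (hf₁.isConj hAU hB)
        refine hcongr A (f₂ ∘ f₁) f hA (fun x hx => ?_) (hcomp A B f₁ f₂ hA (hf₁.mono hAU) hB
          (hf₂.mono hBV) (hφ.2 f₁ (fun x => (e₁ x).symm) A hA hAU)
          (hψ.2 f₂ (fun x => (e₂ x).symm) B hAB hBV))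
        refine (hf ⟨x, hAU hx⟩).symm.trans ?_
        show ψ ⟨φ ⟨x, hAU hx⟩, h _⟩ = f₂ (f₁ x)
        exact (e₂ ⟨φ ⟨x, hAU hx⟩, h _⟩).symm.trans (congrArg f₂ (e₁ ⟨x, hAU hx⟩).symm)
      inv_mem := fun {U φ} hφ => by
        obtain ⟨ψ, hψ, h⟩ := F.inv_mem hφ.1
        refine ⟨ψ, ⟨hψ, fun f hf A hA hAU => ?_⟩, h⟩
        have hm : Mor F φ.range f := ⟨ψ, hψ, hf⟩
        obtain ⟨f₁, hf₁, e₁⟩ := Mor.of_mem hφ.1
        obtain ⟨B, hB⟩ := hm.exists_im hAU
        have hleft : ∀ y ∈ A, f₁ (f y) = y := fun y hy => by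
          obtain ⟨x, rfl⟩ := hAU hy
          rw [← hf ⟨φ x, x, rfl⟩, h x]
          exact e₁ x
        have hBU : B ≤ U := fun b hb => by
          obtain ⟨y, hy, rfl⟩ := hB.surj hb
          obtain ⟨x, rfl⟩ := hAU hy
          rw [← hf ⟨φ x, x, rfl⟩, h x]
          exact x.2
        have hright : ∀ b ∈ B, f (f₁ b) = b := fun b hb => by
          obtain ⟨y, hy, rfl⟩ := hB.surj hb
          rw [hleft y hy]
        have hI : Im f₁ B A := fun y => by
          constructor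
          · intro hy
            exact ⟨f y, hB.mem hy, hleft y hy⟩
          · rintro ⟨b, hb, rfl⟩
            obtain ⟨y, hy, rfl⟩ := hB.surj hb
            rw [hleft y hy]
            exact hy
        have hB' : F.IsConj P B := isConj_trans hA (hm.isConj hAU hB)
        exact hinv B A f₁ f hB' (hf₁.mono hBU) hI (hm.mono hAU) hB hright hleft
          (hφ.2 f₁ (fun x => (e₁ x).symm) B hB' hBU) }
  have hle : F ≤ E := by
    refine hgen E fun U hU φ hφ => ⟨hφ, fun f hf A hA hAU => ?_⟩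
    have hUS := le_of_mem_hom hφ
    have hne : A ≠ U := fun e => hnot A hA (e ▸ hU)
    refine hedge A (normalizerIn U A) f hA (lt_normalizerIn p hS hUS (lt_of_le_of_ne hAU hne))
      (inf_le_inf_right _ hUS) ?_
    exact Mor.mono ⟨φ, hφ, hf⟩ (normalizerIn_le_S A)
  rintro A f hA ⟨φ, hφ, hf⟩
  exact (hle A hφ).2 f hf A hA le_rfl

/-- A map onto a good subgroup, corrected so that it extends to `N_S(R) ∩ N_S(A)`. -/
theorem climb [Finite S] (p : ℕ) [Fact p.Prime] (hS : IsPGroup p S) {R R' A X Z : Subgroup Ω}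
    (hrec : F.IsReceptive R')
    {f c : Ω → Ω} (hf : Mor F R f) (hfi : Im f R R') (hAR : A ≤ R)
    (hRN : R ≤ Subgroup.normalizer (A : Set Ω)) (hfA : Im f A X) (hc : Mor F R' c)
    (hci : Im c R' R') (hcX : Im c X Z) (T : Sylow p (stabAut F R' Z))
    (hT : (T : Subgroup (stabAut F R' Z)) = innerStab F R' Z) :
    ∃ g b : Ω → Ω, Mor F (normalizerIn S R ⊓ normalizerIn S A) g ∧ Im g A Z ∧ Im g R R' ∧
      Mor F R' b ∧ Im b R' R' ∧ Im b X Z ∧ ∀ x ∈ R, g x = b (f x) := by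
  have hRS := hf.le_S
  have hR'S := hc.le_S
  haveI : Finite R' := finite_of_le hR'S
  haveI : Finite (MulAut R') := finite_mulAut
  have hZR' : Z ≤ R' := fun z hz => by
    obtain ⟨x, hx, rfl⟩ := hcX.surj hz
    obtain ⟨a, ha, rfl⟩ := hfA.surj hx
    exact hci.mem (hfi.mem (hAR ha))
  let f₁ : Ω → Ω := c ∘ f
  have hf₁ : Mor F R f₁ := hf.comp hc fun x hx => hfi.mem hx
  have hf₁i : Im f₁ R R' := hfi.comp hci
  have hf₁A : Im f₁ A Z := hfA.comp hcX
  obtain ⟨e, hev, he⟩ := hf₁.exists_equiv le_rfl hf₁i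
  let N : Subgroup Ω := normalizerIn S R ⊓ normalizerIn S A
  let Φ₀ : N →* MulAut R' := (MulAut.congr e).toMonoidHom.comp
    ((conjAut S R).comp (Subgroup.inclusion inf_le_left))
  have hΦ₀ : ∀ (u : N) (x : R), ((Φ₀ u (e x) : R') : Ω) = f₁ ((u : Ω) * x * (u : Ω)⁻¹) := by
    intro u x
    show ((e (conjAut S R _ (e.symm (e x))) : R') : Ω) = _
    rw [e.symm_apply_apply, hev]
    rfl
  have hΦmem : ∀ u, Φ₀ u ∈ F.autGroup R' := fun u => by
    rw [← he]
    exact ⟨_, autInducedBy_le_autGroup hRS (mem_autInducedBy.2 ⟨u, u.2.1.1, fun _ => rfl⟩), rfl⟩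
  have hΦstab : ∀ u, (⟨Φ₀ u, hΦmem u⟩ : F.autGroup R') ∈ stabAut F R' Z := fun u y => by
    obtain ⟨x, rfl⟩ := e.surjective y
    show _ ↔ ((Φ₀ u (e x) : R') : Ω) ∈ Z
    rw [hΦ₀, hev]
    have key : ∀ {w : Ω}, w ∈ R → (f₁ w ∈ Z ↔ w ∈ A) := fun {w} hw => by
      refine ⟨fun h => ?_, fun h => hf₁A.mem h⟩
      obtain ⟨a, ha, hae⟩ := hf₁A.surj h
      rwa [← hf₁.inj (hAR ha) hw hae]
    rw [key x.2, key ((Subgroup.mem_normalizer_iff.1 u.2.1.2 x).1 x.2)]
    exact Subgroup.mem_normalizer_iff.1 u.2.2.2 x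
  let Φ : N →* stabAut F R' Z := (Φ₀.codRestrict _ hΦmem).codRestrict _ hΦstab
  have hp : IsPGroup p Φ.range :=
    (isPGroup_of_le hS (inf_le_left.trans (normalizerIn_le_S R))).of_surjective _
      Φ.rangeRestrict_surjective
  obtain ⟨T', hT'⟩ := hp.exists_le_sylow
  obtain ⟨d, hd⟩ := MulAction.exists_smul_eq (stabAut F R' Z) T' T
  obtain ⟨fd, hfd, hfdi, hfde⟩ := exists_mor_of_aut hR'S (d : F.autGroup R').2
  have hfdZ : Im fd Z Z := fun y => by
    constructor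
    · intro hy
      refine ⟨((((d : F.autGroup R') : MulAut R')⁻¹ ⟨y, hZR' hy⟩ : R') : Ω),
        ((inv_mem d.2 : (d : F.autGroup R')⁻¹ ∈ stabAut F R' Z) ⟨y, hZR' hy⟩).1 hy, ?_⟩
      rw [hfde, MulAut.apply_inv_self]
    · rintro ⟨x, hx, rfl⟩
      rw [hfde ⟨x, hZR' hx⟩]
      exact (d.2 ⟨x, hZR' hx⟩).1 hx
  have hg₀ : Mor F R (fd ∘ f₁) := hf₁.comp hfd fun x hx => hf₁i.mem hx
  obtain ⟨g, hg, hge⟩ := receptive_mor (N := N) hrec hg₀ (hf₁i.comp hfdi) fun u hu => by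
    refine ⟨hu.1.1, hu.1.2, ?_⟩
    have h1 : d * Φ ⟨u, hu⟩ * d⁻¹ ∈ innerStab F R' Z := by
      rw [← hT, ← hd, Sylow.coe_subgroup_smul]
      exact ⟨_, hT' ⟨_, rfl⟩, rfl⟩
    obtain ⟨h, hhS, hh⟩ := mem_innerStab.1 h1
    refine ⟨h, hhS, fun x hx => ?_⟩
    have hux : u * x * u⁻¹ ∈ R := (Subgroup.mem_normalizer_iff.1 hu.1.2 x).1 hx
    show fd (f₁ (u * x * u⁻¹)) = h * fd (f₁ x) * h⁻¹
    rw [show f₁ x = ((e ⟨x, hx⟩ : R') : Ω) from (hev ⟨x, hx⟩).symm, hfde, ← hh,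
      show f₁ (u * x * u⁻¹) = ((Φ₀ ⟨u, hu⟩ (e ⟨x, hx⟩) : R') : Ω) from (hΦ₀ ⟨u, hu⟩ ⟨x, hx⟩).symm, hfde]
    show _ = ((((d : F.autGroup R') : MulAut R') (Φ₀ ⟨u, hu⟩
      (((d : F.autGroup R') : MulAut R')⁻¹ (((d : F.autGroup R') : MulAut R') (e ⟨x, hx⟩)))) : R') : Ω)
    rw [MulAut.inv_apply_self]
  refine ⟨g, fd ∘ c, hg.mono le_sup_left, (hf₁A.comp hfdZ).congr fun x hx => hge x (hAR hx),
    (hf₁i.comp hfdi).congr hge, hc.comp hfd fun x hx => hci.mem hx, hci.comp hfdi,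
    hcX.comp hfdZ, hge⟩

theorem le_inter_normalizers {R A : Subgroup Ω} (hR : R ≤ normalizerIn S A) :
    R ≤ normalizerIn S R ⊓ normalizerIn S A :=
  le_inf (le_normalizerIn (hR.trans (normalizerIn_le_S A))) hR

theorem lt_inter_normalizers [Finite S] (p : ℕ) [Fact p.Prime] (hS : IsPGroup p S)
    {R A : Subgroup Ω} (hR : R < normalizerIn S A) :
    R < normalizerIn S R ⊓ normalizerIn S A := by
  refine lt_of_lt_of_le (lt_normalizerIn p hS (normalizerIn_le_S A) hR) fun x hx => ?_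
  exact ⟨⟨hx.1.1, hx.2⟩, hx.1⟩

end CfsgLib.Fusion
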