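import Cfsg.Agent.Fusion.HGen.Link

/-!
The automorphisms of a fully normalized subgroup outside the generating family extend to the
overgroup cut out by `O_p` of its automizer.
-/

set_option autoImplicit false
set_option linter.style.haveILetI false

open Cfsg Cfsg.FusionSystem

namespace CfsgLib.Fusion

variable {Ω : Type*} [Group Ω] {S : Subgroup Ω} {F : FusionSystem S}

/-- `β` on `P` extends to `hat P`. -/
def HatExt (F : FusionSystem S) (p : ℕ) (P : Subgroup Ω) (β : Ω → Ω) : Prop :=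
  ∃ γ : Ω → Ω, Mor F (hat F p P) γ ∧ ∀ x ∈ P, γ x = β x

theorem Mor.im_hat [Finite S] (p : ℕ) [Fact p.Prime] (hS : IsPGroup p S) {P : Subgroup Ω}
    (hP : P ≤ S) {γ : Ω → Ω} (hγ : Mor F (hat F p P) γ) (hi : Im γ P P) :
    Im γ (hat F p P) (hat F p P) := by
  obtain ⟨V, hV⟩ := hγ.exists_im (le_refl (hat F p P))
  have hle : V ≤ hat F p P := fun y hy => by
    obtain ⟨x, hx, rfl⟩ := hV.surj hy
    exact hat_map p hγ (le_hat p hS hP) hi hx hx
  rwa [eq_of_le_of_card_le (hat_le_normalizerIn.trans (normalizerIn_le_S P)) hle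
    (hγ.card_im le_rfl hV).ge] at hV

/-- An element of the stabilizer as a function. -/
theorem stabAut_mor {R' Z : Subgroup Ω} (hR' : R' ≤ S) (hZ : Z ≤ R') (γ : stabAut F R' Z) :
    ∃ f : Ω → Ω, Mor F R' f ∧ Im f R' R' ∧ Im f Z Z ∧
      ∀ x : R', f x = ((((γ : F.autGroup R') : MulAut R') x : R') : Ω) := by
  obtain ⟨f, hf, hfi, hfe⟩ := exists_mor_of_aut hR' (γ : F.autGroup R').2
  refine ⟨f, hf, hfi, fun y => ⟨fun hy => ?_, ?_⟩, hfe⟩
  · refine ⟨((((γ : F.autGroup R') : MulAut R')⁻¹ ⟨y, hZ hy⟩ : R') : Ω),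
      ((inv_mem γ.2 : (γ : F.autGroup R')⁻¹ ∈ stabAut F R' Z) ⟨y, hZ hy⟩).1 hy, ?_⟩
    rw [hfe, MulAut.apply_inv_self]
  · rintro ⟨x, hx, rfl⟩
    rw [hfe ⟨x, hZ hx⟩]
    exact (γ.2 ⟨x, hZ hx⟩).1 hx

/-- The restriction map of a stabilizer, with values in the automizer. -/
def restrictAut (F : FusionSystem S) {R X : Subgroup Ω} (hR : R ≤ S) (hX : X ≤ R) :
    stabAut F R X →* F.autGroup X :=
  (restrictStab F R X hX).codRestrict _ (restrictStab_mem hR hX)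

theorem coe_restrictAut {R X : Subgroup Ω} (hR : R ≤ S) (hX : X ≤ R) (γ : stabAut F R X) (x : X) :
    ((((restrictAut F hR hX γ : F.autGroup X) : MulAut X) x : X) : Ω) =
      ((((γ : F.autGroup R) : MulAut R) ⟨x, hX x.2⟩ : R) : Ω) := rfl

theorem exists_conj_stab {R X : Subgroup Ω} (hR : R ≤ S) {u : Ω}
    (huR : u ∈ normalizerIn S R) (huX : u ∈ Subgroup.normalizer (X : Set Ω)) :
    ∃ t : stabAut F R X, t ∈ innerStab F R X ∧
      ∀ x : R, ((((t : F.autGroup R) : MulAut R) x : R) : Ω) = u * x * u⁻¹ := by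
  have hm : conjAut S R ⟨u, huR⟩ ∈ F.autGroup R :=
    autInducedBy_le_autGroup hR (mem_autInducedBy.2 ⟨u, huR.1, fun _ => rfl⟩)
  have hs : (⟨_, hm⟩ : F.autGroup R) ∈ stabAut F R X := fun x =>
    Subgroup.mem_normalizer_iff.1 huX x
  exact ⟨⟨_, hs⟩, mem_innerStab.2 ⟨u, huR.1, fun _ => rfl⟩, fun _ => rfl⟩

theorem stab_extend [Finite S] (p : ℕ) [Fact p.Prime] (hS : IsPGroup p S) {P R' Z : Subgroup Ω}
    (hP : P ≤ S) (hR' : F.IsReceptive R')
    (hR'N : R' ≤ normalizerIn S Z) (hZR' : Z ≤ R') (hcard : Nat.card P = Nat.card Z)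
    (hlt : Nat.card P < Nat.card R')
    (T : Sylow p (stabAut F R' Z)) (hT : (T : Subgroup (stabAut F R' Z)) = innerStab F R' Z)
    {h₀ : Ω} (hh₀R : h₀ ∈ normalizerIn S R') (hh₀Z : h₀ ∈ hat F p Z) (hh₀ : h₀ ∉ R')
    {ν : Ω → Ω} (hν : Mor F (normalizerIn S Z) ν) (hνZ : Im ν Z P)
    (IH : ∀ {R₁ : Subgroup Ω} {ψ : Ω → Ω}, Nat.card R' < Nat.card R₁ → P < R₁ →
      R₁ ≤ normalizerIn S P → Mor F R₁ ψ → Im ψ P P → HatExt F p P ψ)
    (a : stabAut F R' Z) :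
    ∃ δ : Ω → Ω, Mor F (hat F p P) δ ∧ ∀ z : R', (z : Ω) ∈ Z →
      δ (ν z) = ν ((((a : F.autGroup R') : MulAut R') z : R') : Ω) := by
  have hR'S := hR'.1
  have hZS : Z ≤ S := hZR'.trans hR'S
  haveI : Finite R' := finite_of_le hR'S
  haveI : Finite Z := finite_of_le hZS
  haveI : Finite (MulAut R') := finite_mulAut
  haveI : Finite (MulAut Z) := finite_mulAut
  have hZN := le_normalizerIn (S := S) hZS
  have hPh := le_hat p hS hP (F := F)
  have hhS : hat F p P ≤ S := hat_le_normalizerIn.trans (normalizerIn_le_S P)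
  -- a solution fixes `P`
  have him : ∀ (b : stabAut F R' Z) (δ : Ω → Ω), (∀ z : R', (z : Ω) ∈ Z →
      δ (ν z) = ν ((((b : F.autGroup R') : MulAut R') z : R') : Ω)) → Im δ P P := by
    intro b δ hδ y
    constructor
    · intro hy
      obtain ⟨z, hz, rfl⟩ := hνZ.surj hy
      let w : R' := ((b : F.autGroup R') : MulAut R')⁻¹ ⟨z, hZR' hz⟩
      have hw : (w : Ω) ∈ Z :=
        ((inv_mem b.2 : (b : F.autGroup R')⁻¹ ∈ stabAut F R' Z) ⟨z, hZR' hz⟩).1 hz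
      refine ⟨ν w, hνZ.mem hw, (hδ w hw).trans ?_⟩
      rw [MulAut.apply_inv_self]
    · rintro ⟨x, hx, rfl⟩
      obtain ⟨z, hz, rfl⟩ := hνZ.surj hx
      rw [hδ ⟨z, hZR' hz⟩ hz]
      exact hνZ.mem ((b.2 ⟨z, hZR' hz⟩).1 hz)
  let G : Subgroup (stabAut F R' Z) :=
    { carrier := {b | ∃ δ : Ω → Ω, Mor F (hat F p P) δ ∧ ∀ z : R', (z : Ω) ∈ Z →
        δ (ν z) = ν ((((b : F.autGroup R') : MulAut R') z : R') : Ω)}
      one_mem' := ⟨id, Mor.id_mor hhS, fun _ _ => rfl⟩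
      mul_mem' := fun {b b'} ⟨δ, hδ, hδe⟩ ⟨δ', hδ', hδ'e⟩ => by
        have hI := hδ'.im_hat p hS hP (him b' δ' hδ'e)
        refine ⟨δ ∘ δ', hδ'.comp hδ fun x hx => hI.mem hx, fun z hz => ?_⟩
        show δ (δ' (ν z)) = _
        rw [hδ'e z hz, hδe _ ((b'.2 z).1 hz)]
        rfl
      inv_mem' := fun {b} ⟨δ, hδ, hδe⟩ => by
        obtain ⟨δ', hδ', -, h1, -⟩ := hδ.exists_inv (hδ.im_hat p hS hP (him b δ hδe))
        refine ⟨δ', hδ', fun z hz => ?_⟩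
        let w : R' := ((b : F.autGroup R') : MulAut R')⁻¹ z
        have hw : (w : Ω) ∈ Z := ((inv_mem b.2 : (b : F.autGroup R')⁻¹ ∈ stabAut F R' Z) z).1 hz
        have h2 := hδe w hw
        rw [show ((b : F.autGroup R') : MulAut R') w = z from MulAut.apply_inv_self _ _ _] at h2
        rw [← h2, h1 _ (hPh (hνZ.mem hw))]
        rfl }
  suffices htop : G = ⊤ by exact htop.ge (Subgroup.mem_top a)
  let ρ : stabAut F R' Z →* F.autGroup Z := restrictAut F hR'S hZR'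
  obtain ⟨hcn, hcp⟩ := CfsgLib.Solvable.pCore_spec (G := F.autGroup Z) p
  let K : Subgroup (stabAut F R' Z) := (pCore p (F.autGroup Z)).comap ρ
  haveI : K.Normal := hcn.comap ρ
  obtain ⟨TK, hTK⟩ := exists_sylow_normal T K
  -- the kernel part
  have hK : K ≤ G := by
    intro b hb
    have hp : IsPGroup p (ρ.comp K.subtype).range :=
      hcp.to_le (by rintro _ ⟨⟨x, hx⟩, rfl⟩; exact hx)
    obtain ⟨t, ht, hte⟩ := (map_sylow_eq TK (ρ.comp K.subtype) hp).ge ⟨⟨b, hb⟩, rfl⟩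
    have htT : (t : stabAut F R' Z) ∈ innerStab F R' Z := by
      rw [← hT]
      exact (hTK.le (Subgroup.mem_map_of_mem K.subtype ht)).1
    obtain ⟨h, hhS', hh⟩ := mem_innerStab.1 htT
    have hhN : h ∈ normalizerIn S Z :=
      ⟨hhS', (mem_normalizer_of_innerStab hR'S hZR' hh).1⟩
    refine ⟨fun x => ν h * x * (ν h)⁻¹, Mor.conj_mor hhS (hν.mem_S hhN), fun z hz => ?_⟩
    show ν h * ν z * (ν h)⁻¹ = _
    rw [← hν.map_conj hhN (hZN hz), ← hh]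
    refine congrArg ν ?_
    have h3 := congrArg (fun q : F.autGroup Z => (((q : MulAut Z) ⟨z, hz⟩ : Z) : Ω)) hte
    exact h3
  -- the normalizer part
  have hN : Subgroup.normalizer (((TK : Subgroup K).map K.subtype : Subgroup (stabAut F R' Z)) :
      Set (stabAut F R' Z)) ≤ G := by
    intro n hn
    obtain ⟨fn, hfn, hfni, hfnZ, hfne⟩ := stabAut_mor hR'S hZR' n
    let N : Subgroup Ω := normalizerIn S R' ⊓ hat F p Z
    obtain ⟨f', hf', hf'e⟩ := receptive_mor (N := N) hR' hfn hfni fun u hu => by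
      refine ⟨hu.1.1, hu.1.2, ?_⟩
      obtain ⟨t, ht, hte⟩ := exists_conj_stab hR'S hu.1 (hat_le_normalizerIn hu.2).2 (F := F)
      have htK : t ∈ K := by
        obtain ⟨huN, ⟨q, hq, hqe⟩⟩ := mem_hat.1 hu.2
        show ρ t ∈ pCore p (F.autGroup Z)
        have : ρ t = q := Subtype.ext (MulEquiv.ext fun z => Subtype.ext (by
          rw [show (q : MulAut Z) = conjAut S Z ⟨u, huN⟩ from hqe]
          exact hte ⟨z, hZR' z.2⟩))
        rw [this]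
        exact hq
      have h1 : n * t * n⁻¹ ∈ (TK : Subgroup K).map K.subtype :=
        (Subgroup.mem_normalizer_iff.1 hn t).1 (hTK.ge ⟨hT.ge ht, htK⟩)
      obtain ⟨h, hhS', hh⟩ := mem_innerStab.1 (hT.le (hTK.le h1).1)
      refine ⟨h, hhS', fun x hx => ?_⟩
      have hux : u * x * u⁻¹ ∈ R' := (Subgroup.mem_normalizer_iff.1 hu.1.2 x).1 hx
      rw [hfne ⟨x, hx⟩, ← hh, hfne ⟨_, hux⟩]
      show _ = (((((n : F.autGroup R') : MulAut R') (((t : F.autGroup R') : MulAut R')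
        (((n : F.autGroup R') : MulAut R')⁻¹ (((n : F.autGroup R') : MulAut R') ⟨x, hx⟩)))) : R') : Ω)
      rw [MulAut.inv_apply_self]
      exact congrArg (fun w : R' => ((((n : F.autGroup R') : MulAut R') w : R') : Ω))
        (Subtype.ext (hte ⟨x, hx⟩).symm)
    have hW : N ⊔ R' ≤ normalizerIn S Z :=
      sup_le (inf_le_right.trans hat_le_normalizerIn) hR'N
    have hZW : Z ≤ N ⊔ R' := hZR'.trans le_sup_right
    have hf'Z : Im f' Z Z := hfnZ.congr fun z hz => hf'e z (hZR' hz)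
    have hf'N : ∀ x ∈ N ⊔ R', f' x ∈ normalizerIn S Z := fun x hx =>
      hf'.mem_normalizerIn hZW hf'Z hx (hW hx).2
    obtain ⟨W₀, hW₀⟩ := (hν.mono hW).exists_im (le_refl _)
    obtain ⟨v, hv, hvi, hvZ, hv1, -⟩ := (hν.mono hW).exists_inv_restrict hW₀ hZW hνZ
    have hψ : Mor F W₀ (ν ∘ f' ∘ v) :=
      (hv.comp hf' fun x hx => hvi.mem hx).comp hν fun x hx => hf'N _ (hvi.mem hx)
    have hψP : Im (ν ∘ f' ∘ v) P P := (hvZ.comp hf'Z).comp hνZ
    have hPW : P ≤ W₀ := fun y hy => by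
      obtain ⟨z, hz, rfl⟩ := hνZ.surj hy
      exact hW₀.mem (hZW hz)
    have hcW : Nat.card R' < Nat.card W₀ := by
      rw [(hν.mono hW).card_im le_rfl hW₀]
      refine card_lt_of_lt (hW.trans (normalizerIn_le_S Z)) (lt_of_le_of_ne le_sup_right fun e => ?_)
      exact hh₀ (e.ge (Subgroup.mem_sup_left ⟨hh₀R, hh₀Z⟩))
    obtain ⟨δ, hδ, hδe⟩ := IH hcW (lt_of_card_lt hP hPW (hlt.trans hcW))
      ((hν.mono hW).im_le_normalizerIn hW₀ hZW hW hνZ) hψ hψP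
    refine ⟨δ, hδ, fun z hz => ?_⟩
    rw [hδe _ (hνZ.mem hz)]
    show ν (f' (v (ν z))) = _
    rw [hv1 _ (hZW hz), hf'e _ z.2, hfne]
  exact eq_top_iff.2 ((Sylow.normalizer_sup_eq_top TK).ge.trans (sup_le hN hK))

/-- Automorphisms of `P` defined on larger subgroups extend to `hat P`. -/
theorem edge_extend [Finite S] (p : ℕ) [Fact p.Prime] (hS : IsPGroup p S) {P : Subgroup Ω}
    (hP : P ≤ S) (hbig : BigGood F p P) (hlink : ∀ A, F.IsConj P A → Link F P A) :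
    ∀ {R : Subgroup Ω} {ψ : Ω → Ω}, P < R → R ≤ normalizerIn S P → Mor F R ψ → Im ψ P P →
      HatExt F p P ψ := by
  intro R
  induction hn : Nat.card S - Nat.card R using Nat.strong_induction_on generalizing R with
  | _ n IH =>
  subst hn
  intro ψ hPR hRN hψ hψP
  by_cases hhR : hat F p P ≤ R
  · exact ⟨ψ, hψ.mono hhR, fun _ _ => rfl⟩
  have hRS := hψ.le_S
  have IH' : ∀ {R₁ : Subgroup Ω} {ψ₁ : Ω → Ω}, Nat.card R < Nat.card R₁ → P < R₁ →
      R₁ ≤ normalizerIn S P → Mor F R₁ ψ₁ → Im ψ₁ P P → HatExt F p P ψ₁ := by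
    intro R₁ ψ₁ hlt hP₁ hRN₁ hψ₁ hi
    have := card_le_of_le le_rfl (hRN₁.trans (normalizerIn_le_S P))
    exact IH _ (by omega) rfl hP₁ hRN₁ hψ₁ hi
  have hhN : R ≤ Subgroup.normalizer (hat F p P : Set Ω) :=
    hRN.trans (normalizerIn_le_normalizer_hat p hP)
  have hPh := le_hat p hS hP (F := F)
  -- an element of `hat P` normalizing `R` outside it
  obtain ⟨g, hgh, hgR, hgn⟩ : ∃ g, g ∈ hat F p P ∧ g ∉ R ∧
      g ∈ Subgroup.normalizer (R : Set Ω) := by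
    have hlt : R < R ⊔ hat F p P :=
      lt_of_le_of_ne le_sup_left fun e => hhR (le_sup_right.trans e.ge)
    have hHS : R ⊔ hat F p P ≤ S :=
      sup_le hRS (hat_le_normalizerIn.trans (normalizerIn_le_S P))
    obtain ⟨u, hu, huR⟩ := SetLike.exists_of_lt (lt_normalizerIn p hS hHS hlt)
    have h1 : u ∈ ((R ⊔ hat F p P : Subgroup Ω) : Set Ω) := hu.1
    rw [Subgroup.coe_mul_of_left_le_normalizer_right R _ hhN] at h1
    obtain ⟨r, hr, g, hg, rfl⟩ := h1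
    refine ⟨g, hg, fun hgR => huR (R.mul_mem hr hgR), ?_⟩
    have : g = r⁻¹ * (r * g) := by group
    rw [this]
    exact mul_mem (inv_mem (Subgroup.le_normalizer hr)) hu.2
  obtain ⟨R', hψi⟩ := hψ.exists_im (le_refl R)
  have hPR' : P ≤ R' := fun y hy => by
    obtain ⟨x, hx, rfl⟩ := hψP.surj hy
    exact hψi.mem (hPR.le hx)
  have hR'N : R' ≤ normalizerIn S P := hψ.im_le_normalizerIn hψi hPR.le hRN hψP
  have hR'c : Nat.card R' = Nat.card R := hψ.card_im le_rfl hψi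
  have hRlt : R < normalizerIn S P :=
    lt_of_le_of_ne hRN fun e => hgR (e.ge (hat_le_normalizerIn hgh))
  have hR'lt : R' < normalizerIn S P := lt_of_card_lt (hR'N.trans (normalizerIn_le_S P)) hR'N
    (hR'c ▸ card_lt_of_lt (normalizerIn_le_S P) hRlt)
  have hPc : Nat.card P < Nat.card R := card_lt_of_lt hRS hPR
  obtain ⟨G, hG, hGa, hGr⟩ := hbig R hRS hPc
  obtain ⟨ψ₁, hψ₁, hψ₁i⟩ := isConj_iff_mor.1 hG
  obtain ⟨X, hX⟩ := hψ₁.exists_im hPR.le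
  have hXG : X ≤ G := fun y hy => by
    obtain ⟨x, hx, rfl⟩ := hX.surj hy
    exact hψ₁i.mem (hPR.le hx)
  obtain ⟨c, Z, T, hc, hci, hcX, hZG, hT⟩ := exists_sylow_stab p hS hGa hXG
  obtain ⟨ψ', hψ', hψ'i, hψ'P, hψ'1, -⟩ := hψ.exists_inv_restrict hψi hPR.le hψP
  obtain ⟨g₁, b₁, hg₁, hg₁P, hg₁R, hb₁, hb₁i, hb₁X, he₁⟩ := climb p hS hGr hψ₁ hψ₁i hPR.le
    (hRN.trans inf_le_right) hX hc hci hcX T hT
  obtain ⟨g₂, b₂, hg₂, hg₂P, hg₂R, hb₂, hb₂i, hb₂X, he₂⟩ := climb p hS hGr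
    (hψ'.comp hψ₁ fun x hx => hψ'i.mem hx) (hψ'i.comp hψ₁i) hPR' (hR'N.trans inf_le_right)
    (hψ'P.comp hX) hc hci hcX T hT
  have hR₁ := le_inter_normalizers (S := S) hRN
  have hR₂ := le_inter_normalizers (S := S) hR'N
  have hZmem : F.IsConj P Z := hg₁.isConj (hPR.le.trans hR₁) hg₁P
  obtain ⟨ν, hν, hνZ⟩ := hlink Z hZmem
  have hGN : G ≤ normalizerIn S Z :=
    (hg₁.mono hR₁).im_le_normalizerIn hg₁R hPR.le hRN hg₁P
  have hgN : g ∈ normalizerIn S R ⊓ normalizerIn S P :=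
    ⟨⟨(hat_le_normalizerIn hgh).1, hgn⟩, hat_le_normalizerIn hgh⟩
  have hg₁g : g₁ g ∉ G := fun h => by
    obtain ⟨x, hx, hxe⟩ := hg₁R.surj h
    exact hgR (hg₁.inj hgN (hR₁ hx) hxe.symm ▸ hx)
  have hGc : Nat.card G = Nat.card R := hψ₁.card_im le_rfl hψ₁i
  -- the automorphism of `G`
  obtain ⟨b', hb', hb'i, hb'Z, hb'1, -⟩ := hb₁.exists_inv_restrict hb₁i hXG hb₁X
  obtain ⟨α, hα, hαe⟩ := (hb'.comp hb₂ fun x hx => hb'i.mem hx).exists_aut le_rfl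
    (hb'i.comp hb₂i)
  let a : stabAut F G Z := ⟨⟨α, hα⟩, mem_stabAut_of_im hZG (hb'Z.comp hb₂X) hαe⟩
  obtain ⟨δ, hδ, hδe⟩ := stab_extend p hS hP hGr hGN hZG (IsConj.card_eq hZmem).symm
    (hGc ▸ hPc) T hT (hg₁.mem_normalizerIn hR₁ hg₁R hgN hgn)
    (hat_map p hg₁ (hPR.le.trans hR₁) hg₁P hgN hgh) hg₁g hν hνZ
    (fun h => IH' (hGc ▸ h)) a
  obtain ⟨δ₁, hδ₁, hδ₁e⟩ := IH'
    (card_lt_of_lt (inf_le_left.trans (normalizerIn_le_S R)) (lt_inter_normalizers p hS hRlt))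
    (hPR.trans_le hR₁) inf_le_right
    (hg₁.comp hν fun x hx => hg₁.mem_normalizerIn (hPR.le.trans hR₁) hg₁P hx hx.2.2)
    (hg₁P.comp hνZ)
  obtain ⟨δ₂, hδ₂, hδ₂e⟩ := IH'
    (hR'c ▸ card_lt_of_lt (inf_le_left.trans (normalizerIn_le_S R'))
      (lt_inter_normalizers p hS hR'lt))
    ((lt_of_card_lt hP hPR' (hR'c.symm ▸ hPc)).trans_le hR₂) inf_le_right
    (hg₂.comp hν fun x hx => hg₂.mem_normalizerIn (hPR'.trans hR₂) hg₂P hx hx.2.2)
    (hg₂P.comp hνZ)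
  have hI₁ := hδ₁.im_hat p hS hP ((hg₁P.comp hνZ).congr hδ₁e)
  obtain ⟨δ₂', hδ₂', hδ₂'i, h2, -⟩ :=
    hδ₂.exists_inv (hδ₂.im_hat p hS hP ((hg₂P.comp hνZ).congr hδ₂e))
  have hI : Im δ P P := fun y => by
    constructor
    · intro hy
      obtain ⟨z, hz, rfl⟩ := hνZ.surj hy
      obtain ⟨w, hw, hwe⟩ := (hb'Z.comp hb₂X).surj hz
      refine ⟨ν w, hνZ.mem hw, ?_⟩
      rw [hδe ⟨w, hZG hw⟩ hw, hαe]
      exact congrArg ν hwe
    · rintro ⟨x, hx, rfl⟩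
      obtain ⟨z, hz, rfl⟩ := hνZ.surj hx
      rw [hδe ⟨z, hZG hz⟩ hz, hαe]
      exact hνZ.mem ((hb'Z.comp hb₂X).mem hz)
  have hIδ := hδ.im_hat p hS hP hI
  refine ⟨δ₂' ∘ δ ∘ δ₁, (hδ₁.comp hδ fun x hx => hI₁.mem hx).comp hδ₂'
    fun x hx => hIδ.mem (hI₁.mem hx), fun x hx => ?_⟩
  show δ₂' (δ (δ₁ x)) = ψ x
  rw [hδ₁e x hx]
  show δ₂' (δ (ν (g₁ x))) = ψ x
  rw [hδe ⟨g₁ x, hg₁R.mem (hPR.le hx)⟩ (hg₁P.mem hx), hαe]
  show δ₂' (ν (b₂ (b' (g₁ x)))) = ψ x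
  rw [he₁ x (hPR.le hx), hb'1 _ (hψ₁i.mem (hPR.le hx))]
  have h3 : g₂ (ψ x) = b₂ (ψ₁ x) := by
    rw [he₂ _ (hψi.mem (hPR.le hx))]
    show b₂ (ψ₁ (ψ' (ψ x))) = _
    rw [hψ'1 x (hPR.le hx)]
  rw [← h3]
  show δ₂' ((ν ∘ g₂) (ψ x)) = ψ x
  rw [← hδ₂e _ (hψP.mem hx), h2 _ (hPh (hψP.mem hx))]

/-- Every map between members of the class, transported to `P`, extends to `hat P`; in particular
every automorphism of `P` does. -/
theorem aut_extend [Finite S] (p : ℕ) [Fact p.Prime] (hS : IsPGroup p S)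
    (ℋ : Set (Subgroup Ω))
    (hgen : ∀ E : FusionSystem S, (∀ U ∈ ℋ, F.Hom U ⊆ E.Hom U) → F ≤ E)
    {P : Subgroup Ω} (hlt : P < S) (hnot : ∀ A, F.IsConj P A → A ∉ ℋ)
    (hbig : BigGood F p P) (hlink : ∀ A, F.IsConj P A → Link F P A)
    {β : Ω → Ω} (hβ : Mor F P β) (hβi : Im β P P) : HatExt F p P β := by
  have hP := hlt.le
  have hNP := le_normalizerIn (S := S) hP
  let Pr : Subgroup Ω → (Ω → Ω) → Prop := fun A f => ∀ B νA νB, Im f A B →
    Mor F (normalizerIn S A) νA → Im νA A P → Mor F (normalizerIn S B) νB → Im νB B P →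
    ∃ γ, Mor F (hat F p P) γ ∧ ∀ a ∈ A, γ (νA a) = νB (f a)
  have key : Pr P β := by
    refine class_induction p hS ℋ hgen hlt hnot Pr ?_ ?_ ?_ ?_ P β (isConj_refl hP) hβ
    · intro A f f' _ he h B νA νB hB h1 h2 h3 h4
      obtain ⟨γ, hγ, hγe⟩ := h B νA νB (hB.congr fun x hx => (he x hx).symm) h1 h2 h3 h4
      exact ⟨γ, hγ, fun a ha => by rw [hγe a ha, he a ha]⟩
    · intro A B f g hA hf hfB _ h h' C νA νC hC h1 h2 h3 h4
      obtain ⟨νB, hνB, hνBi⟩ := hlink B (isConj_trans hA (hf.isConj le_rfl hfB))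
      obtain ⟨γ, hγ, hγe⟩ := h B νA νB hfB h1 h2 hνB hνBi
      have hgC : Im g B C := fun y => by
        rw [hC y]
        exact ⟨fun ⟨x, hx, e⟩ => ⟨f x, hfB.mem hx, e⟩, fun ⟨z, hz, e⟩ => by
          obtain ⟨x, hx, rfl⟩ := hfB.surj hz
          exact ⟨x, hx, e⟩⟩
      obtain ⟨γ', hγ', hγ'e⟩ := h' C νB νC hgC hνB hνBi h3 h4
      have hI : Im γ P P := fun y => by
        constructor
        · intro hy
          obtain ⟨b, hb, rfl⟩ := hνBi.surj hy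
          obtain ⟨x, hx, rfl⟩ := hfB.surj hb
          exact ⟨νA x, h2.mem hx, hγe x hx⟩
        · rintro ⟨y, hy, rfl⟩
          obtain ⟨x, hx, rfl⟩ := h2.surj hy
          rw [hγe x hx]
          exact hνBi.mem (hfB.mem hx)
      have hIh := hγ.im_hat p hS hP hI
      exact ⟨γ' ∘ γ, hγ.comp hγ' fun x hx => hIh.mem hx, fun a ha => by
        show γ' (γ (νA a)) = _
        rw [hγe a ha]
        exact hγ'e _ (hfB.mem ha)⟩
    · intro A B f g hA _ hfB _ hgA hgf _ h C νB νA hC h1 h2 h3 h4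
      obtain rfl : C = A := hC.unique hgA
      obtain ⟨γ, hγ, hγe⟩ := h B νA νB hfB h3 h4 h1 h2
      have hI : Im γ P P := fun y => by
        constructor
        · intro hy
          obtain ⟨b, hb, rfl⟩ := h2.surj hy
          obtain ⟨x, hx, rfl⟩ := hfB.surj hb
          exact ⟨νA x, h4.mem hx, hγe x hx⟩
        · rintro ⟨y, hy, rfl⟩
          obtain ⟨x, hx, rfl⟩ := h4.surj hy
          rw [hγe x hx]
          exact h2.mem (hfB.mem hx)
      obtain ⟨γ', hγ', -, h5, -⟩ := hγ.exists_inv (hγ.im_hat p hS hP hI)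
      refine ⟨γ', hγ', fun b hb => ?_⟩
      obtain ⟨x, hx, rfl⟩ := hfB.surj hb
      rw [← hγe x hx, h5 _ (le_hat p hS hP (h4.mem hx)), hgf x hx]
    · intro A R f hA hAR hRN hf B νA νB hfB h1 h2 h3 h4
      obtain ⟨R₀, hR₀⟩ := (h1.mono hRN).exists_im (le_refl R)
      obtain ⟨v, hv, hvi, hvP, hv1, -⟩ := (h1.mono hRN).exists_inv_restrict hR₀ hAR.le h2
      have hfN : ∀ x ∈ R, f x ∈ normalizerIn S B := fun x hx =>
        hf.mem_normalizerIn hAR.le hfB hx (hRN hx).2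
      have hψ : Mor F R₀ (νB ∘ f ∘ v) :=
        (hv.comp hf fun x hx => hvi.mem hx).comp h3 fun x hx => hfN _ (hvi.mem hx)
      have hPR₀ : P ≤ R₀ := fun y hy => by
        obtain ⟨x, hx, rfl⟩ := h2.surj hy
        exact hR₀.mem (hAR.le hx)
      obtain ⟨γ, hγ, hγe⟩ := edge_extend p hS hP hbig hlink (lt_of_card_lt hP hPR₀ (by
        rw [(h1.mono hRN).card_im le_rfl hR₀, ← IsConj.card_eq hA]
        exact card_lt_of_lt hf.le_S hAR))
        ((h1.mono hRN).im_le_normalizerIn hR₀ hAR.le hRN h2) hψ ((hvP.comp hfB).comp h4)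
      refine ⟨γ, hγ, fun a ha => ?_⟩
      rw [hγe _ (h2.mem ha)]
      show νB (f (v (νA a))) = _
      rw [hv1 _ (hAR.le ha)]
  obtain ⟨γ, hγ, hγe⟩ := key P id id hβi (Mor.id_mor (normalizerIn_le_S P)) (im_id P)
    (Mor.id_mor (normalizerIn_le_S P)) (im_id P)
  exact ⟨γ, hγ, hγe⟩

end CfsgLib.Fusion
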