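import Cfsg.Agent.Fusion.HGen.Climb

/-!
In a system generated by a family avoiding the class of a fully normalized subgroup `P`, every
member of the class is carried to `P` by a map on its normalizer.
-/

set_option autoImplicit false
set_option linter.style.haveILetI false

open Cfsg Cfsg.FusionSystem

namespace CfsgLib.Fusion

variable {Ω : Type*} [Group Ω] {S : Subgroup Ω} {F : FusionSystem S}

/-- `A` is carried to `P` by a map defined on `N_S(A)`. -/
def Link (F : FusionSystem S) (P A : Subgroup Ω) : Prop :=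
  ∃ ν : Ω → Ω, Mor F (normalizerIn S A) ν ∧ Im ν A P

/-- Subgroups larger than `P` have a fully automized receptive conjugate. -/
def BigGood (F : FusionSystem S) (p : ℕ) (P : Subgroup Ω) : Prop :=
  ∀ U : Subgroup Ω, U ≤ S → Nat.card P < Nat.card U →
    ∃ Q, F.IsConj U Q ∧ F.IsFullyAutomized p Q ∧ F.IsReceptive Q

/-- The image of the source under a map normalizes the image of a normalized subgroup. -/
theorem Mor.im_le_normalizerIn [Finite S] {R R' A B : Subgroup Ω} {f : Ω → Ω} (hf : Mor F R f)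
    (hfi : Im f R R') (hAR : A ≤ R) (hRN : R ≤ normalizerIn S A) (hAB : Im f A B) :
    R' ≤ normalizerIn S B := fun y hy => by
  obtain ⟨x, hx, rfl⟩ := hfi.surj hy
  exact hf.mem_normalizerIn hAR hAB hx (hRN hx).2

theorem Mor.exists_inv_restrict {R R' A B : Subgroup Ω} {f : Ω → Ω} (hf : Mor F R f)
    (hfi : Im f R R') (hAR : A ≤ R) (hAB : Im f A B) :
    ∃ g : Ω → Ω, Mor F R' g ∧ Im g R' R ∧ Im g B A ∧ (∀ x ∈ R, g (f x) = x) ∧
      ∀ y ∈ R', f (g y) = y := by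
  obtain ⟨g, hg, hgi, h1, h2⟩ := hf.exists_inv hfi
  refine ⟨g, hg, hgi, fun x => ?_, h1, h2⟩
  constructor
  · intro hx
    exact ⟨f x, hAB.mem hx, h1 x (hAR hx)⟩
  · rintro ⟨y, hy, rfl⟩
    obtain ⟨x, hx, rfl⟩ := hAB.surj hy
    rw [h1 x (hAR hx)]
    exact hx

theorem edge_link [Finite S] (p : ℕ) [Fact p.Prime] (hS : IsPGroup p S) {P : Subgroup Ω}
    (hfn : F.IsFullyNormalized P) (hbig : BigGood F p P) :
    ∀ {A R B : Subgroup Ω} {f : Ω → Ω}, F.IsConj P A → A < R → R ≤ normalizerIn S A →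
      Mor F R f → Im f A B → (Link F P A ↔ Link F P B) := by
  intro A R
  induction hn : Nat.card S - Nat.card R using Nat.strong_induction_on generalizing A R with
  | _ n IH =>
  subst hn
  have IH' : ∀ {A' R₁ B' : Subgroup Ω} {f' : Ω → Ω}, Nat.card R < Nat.card R₁ → F.IsConj P A' →
      A' < R₁ → R₁ ≤ normalizerIn S A' → Mor F R₁ f' → Im f' A' B' →
      (Link F P A' ↔ Link F P B') := by
    intro A' R₁ B' f' hlt hA' hAR hRN hf hi
    have := card_le_of_le le_rfl (hRN.trans (normalizerIn_le_S A'))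
    exact IH _ (by omega) rfl hA' hAR hRN hf hi
  -- maps that stay strictly inside the normalizers at both ends
  have bad : ∀ {A₀ R₀ B₀ R₀' : Subgroup Ω} {f₀ : Ω → Ω}, Nat.card R₀ = Nat.card R → F.IsConj P A₀ →
      A₀ < R₀ → R₀ < normalizerIn S A₀ → Mor F R₀ f₀ → Im f₀ R₀ R₀' → Im f₀ A₀ B₀ →
      R₀' < normalizerIn S B₀ → (Link F P A₀ ↔ Link F P B₀) := by
    intro A₀ R₀ B₀ R₀' f₀ hcard hA₀ hAR hRN hf hfi hAB hR'N
    have hB₀ : F.IsConj P B₀ := isConj_trans hA₀ (hf.isConj hAR.le hAB)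
    have hR₀S := hf.le_S
    have hlt : Nat.card P < Nat.card R₀ := by
      rw [← IsConj.card_eq hA₀]
      exact card_lt_of_lt hR₀S hAR
    obtain ⟨G, hG, hGa, hGr⟩ := hbig R₀ hR₀S hlt
    obtain ⟨ψ, hψ, hψi⟩ := isConj_iff_mor.1 hG
    obtain ⟨X, hX⟩ := hψ.exists_im hAR.le
    have hXG : X ≤ G := fun y hy => by
      obtain ⟨x, hx, rfl⟩ := hX.surj hy
      exact hψi.mem (hAR.le hx)
    obtain ⟨c, Z, T, hc, hci, hcX, -, hT⟩ := exists_sylow_stab p hS hGa hXG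
    obtain ⟨f', hf', hf'i, hf'B, -, -⟩ := hf.exists_inv_restrict hfi hAR.le hAB
    obtain ⟨g₁, -, hg₁, hg₁A, -⟩ := climb p hS hGr hψ hψi hAR.le (hRN.le.trans inf_le_right) hX
      hc hci hcX T hT
    have hBR : B₀ ≤ R₀' := fun y hy => by
      obtain ⟨x, hx, rfl⟩ := hAB.surj hy
      exact hfi.mem (hAR.le hx)
    obtain ⟨g₂, -, hg₂, hg₂B, -⟩ := climb p hS hGr (hf'.comp hψ fun x hx => hf'i.mem hx)
      (hf'i.comp hψi) hBR (hR'N.le.trans inf_le_right) (hf'B.comp hX) hc hci hcX T hT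
    have hcard' : Nat.card R₀' = Nat.card R₀ := hf.card_im le_rfl hfi
    have hlt₁ : Nat.card R < Nat.card ↥(normalizerIn S R₀ ⊓ normalizerIn S A₀) :=
      hcard ▸ card_lt_of_lt (inf_le_left.trans (normalizerIn_le_S R₀)) (lt_inter_normalizers p hS hRN)
    have hlt₂ : Nat.card R < Nat.card ↥(normalizerIn S R₀' ⊓ normalizerIn S B₀) := by
      rw [← hcard, ← hcard']
      exact card_lt_of_lt (inf_le_left.trans (normalizerIn_le_S R₀'))
        (lt_inter_normalizers p hS hR'N)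
    rw [IH' hlt₁ hA₀ (hAR.trans_le (le_inter_normalizers hRN.le)) inf_le_right hg₁ hg₁A,
      IH' hlt₂ hB₀ (lt_of_lt_of_le (lt_of_card_lt (IsConj.le_right hB₀) hBR (by
        rw [IsConj.card_eq hB₀, hcard']; exact hlt)) (le_inter_normalizers hR'N.le))
        inf_le_right hg₂ hg₂B]
  -- one direction
  have half : ∀ {A₀ R₀ B₀ : Subgroup Ω} {f₀ : Ω → Ω}, Nat.card R₀ = Nat.card R → F.IsConj P A₀ →
      A₀ < R₀ → R₀ ≤ normalizerIn S A₀ → Mor F R₀ f₀ → Im f₀ A₀ B₀ →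
      Link F P A₀ → Link F P B₀ := by
    intro A₀ R₀ B₀ f₀ hcard hA₀ hAR hRN hf hAB hlink
    obtain ⟨R₀', hfi⟩ := hf.exists_im (le_refl R₀)
    have hR'N : R₀' ≤ normalizerIn S B₀ := hf.im_le_normalizerIn hfi hAR.le hRN hAB
    obtain ⟨ν, hν, hνA⟩ := hlink
    obtain ⟨f', hf', hf'i, hf'B, -, -⟩ := hf.exists_inv_restrict hfi hAR.le hAB
    have hτ : Mor F R₀' (ν ∘ f') := hf'.comp hν fun x hx => hRN (hf'i.mem hx)
    rcases hR'N.eq_or_lt with heq | hlt'
    · exact ⟨_, heq ▸ hτ, hf'B.comp hνA⟩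
    rcases hRN.eq_or_lt with heq | hlt
    · -- compare `B₀` with `P`
      have hBR : B₀ ≤ R₀' := fun y hy => by
        obtain ⟨x, hx, rfl⟩ := hAB.surj hy
        exact hfi.mem (hAR.le hx)
      have hB₀ : F.IsConj P B₀ := isConj_trans hA₀ (hf.isConj hAR.le hAB)
      have hR'c : Nat.card R₀' = Nat.card R₀ := hf.card_im le_rfl hfi
      obtain ⟨W, hW⟩ := hτ.exists_im (le_refl R₀')
      have hWN : W ≤ normalizerIn S P := hτ.im_le_normalizerIn hW hBR hR'N (hf'B.comp hνA)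
      have hBR' : B₀ < R₀' := lt_of_card_lt (IsConj.le_right hB₀) hBR (by
        rw [IsConj.card_eq hB₀, hR'c, ← IsConj.card_eq hA₀]
        exact card_lt_of_lt hf.le_S hAR)
      have hWlt : W < normalizerIn S P := by
        refine lt_of_card_lt (hWN.trans (normalizerIn_le_S P)) hWN ?_
        rw [hτ.card_im le_rfl hW]
        exact (card_lt_of_lt (normalizerIn_le_S B₀) hlt').trans_le (hfn.2 B₀ hB₀)
      exact (bad (hR'c.trans hcard) hB₀ hBR' hlt' hτ hW (hf'B.comp hνA) hWlt).2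
        ⟨id, Mor.id_mor (normalizerIn_le_S P), im_id P⟩
    · exact (bad hcard hA₀ hAR hlt hf hfi hAB hlt').1 ⟨ν, hν, hνA⟩
  intro B f hA hAR hRN hf hAB
  obtain ⟨R', hfi⟩ := hf.exists_im (le_refl R)
  obtain ⟨f', hf', -, hf'B, -, -⟩ := hf.exists_inv_restrict hfi hAR.le hAB
  have hB : F.IsConj P B := isConj_trans hA (hf.isConj hAR.le hAB)
  have hBR : B ≤ R' := fun y hy => by
    obtain ⟨x, hx, rfl⟩ := hAB.surj hy
    exact hfi.mem (hAR.le hx)
  have hcard : Nat.card R' = Nat.card R := hf.card_im le_rfl hfi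
  refine ⟨half rfl hA hAR hRN hf hAB, half hcard hB (lt_of_card_lt (IsConj.le_right hB) hBR ?_)
    (hf.im_le_normalizerIn hfi hAR.le hRN hAB) hf' hf'B⟩
  rw [IsConj.card_eq hB, hcard, ← IsConj.card_eq hA]
  exact card_lt_of_lt hf.le_S hAR

/-- Every member of the class is carried to `P` by a map on its normalizer. -/
theorem exists_link [Finite S] (p : ℕ) [Fact p.Prime] (hS : IsPGroup p S)
    (ℋ : Set (Subgroup Ω))
    (hgen : ∀ E : FusionSystem S, (∀ U ∈ ℋ, F.Hom U ⊆ E.Hom U) → F ≤ E)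
    {P : Subgroup Ω} (hlt : P < S) (hnot : ∀ A, F.IsConj P A → A ∉ ℋ)
    (hfn : F.IsFullyNormalized P) (hbig : BigGood F p P) {A : Subgroup Ω}
    (hA : F.IsConj P A) : Link F P A := by
  obtain ⟨f, hf, hfi⟩ := isConj_iff_mor.1 hA
  refine (class_induction p hS ℋ hgen hlt hnot
    (fun C g => ∀ B, Im g C B → (Link F P C ↔ Link F P B)) ?_ ?_ ?_ ?_
    P f (isConj_refl hfn.1) hf A hfi).1 ⟨id, Mor.id_mor (normalizerIn_le_S P), im_id P⟩
  · intro C g g' _ he h B hB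
    exact h B (hB.congr fun x hx => (he x hx).symm)
  · intro C D g g' _ _ hD _ h h' B hB
    obtain ⟨B', hB'⟩ : ∃ B', Im g' D B' := ⟨B, fun y => by
      rw [hB y]
      exact ⟨fun ⟨x, hx, e⟩ => ⟨g x, hD.mem hx, e⟩, fun ⟨z, hz, e⟩ => by
        obtain ⟨x, hx, rfl⟩ := hD.surj hz
        exact ⟨x, hx, e⟩⟩⟩
    rw [h D hD, h' B' hB', (hD.comp hB').unique hB]
  · intro C D g g' _ _ hD _ hD' _ _ h B hB
    rw [← hD'.unique hB, h D hD]
  · intro C R g hC hCR hRN hg B hB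
    exact edge_link p hS hfn hbig hC hCR hRN hg hB

theorem normalizerIn_le_normalizer_hat [Finite S] (p : ℕ) [Fact p.Prime] {P : Subgroup Ω}
    (hP : P ≤ S) : normalizerIn S P ≤ Subgroup.normalizer (hat F p P : Set Ω) := fun u hu => by
  refine mem_normalizer_of_conj_mem (hat_le_normalizerIn.trans (normalizerIn_le_S P)) fun g hg => ?_
  refine hat_map p (Mor.conj_mor (F := F) (normalizerIn_le_S P) hu.1) (le_normalizerIn hP) ?_
    (hat_le_normalizerIn hg) hg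
  intro y
  constructor
  · intro hy
    exact ⟨u⁻¹ * y * u, (Subgroup.mem_normalizer_iff''.1 hu.2 y).1 hy, by group⟩
  · rintro ⟨x, hx, rfl⟩
    exact (Subgroup.mem_normalizer_iff.1 hu.2 x).1 hx

/-- `hat` of a fully normalized subgroup outside the family is strictly larger. -/
theorem lt_hat [Finite S] (p : ℕ) [Fact p.Prime] (hS : IsPGroup p S) {P : Subgroup Ω}
    (hP : P ≤ S)
    (hstar : F.IsCentric P → ∃ Q, F.IsConj P Q ∧ ¬ (autInducedBy S Q ⊓ coreAut F p Q ≤ Inn Q))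
    (hlink : ∀ A, F.IsConj P A → Link F P A) : P < hat F p P := by
  refine lt_of_le_of_ne (le_hat p hS hP) fun heq => ?_
  suffices h : ∃ Q, F.IsConj P Q ∧ ∃ g ∈ hat F p Q, g ∉ Q by
    obtain ⟨Q, hQ, g, hg, hgQ⟩ := h
    obtain ⟨ν, hν, hνQ⟩ := hlink Q hQ
    have hgN := hat_le_normalizerIn hg
    have hQN := le_normalizerIn (S := S) (IsConj.le_right hQ)
    have h1 : ν g ∈ hat F p P := hat_map p hν hQN hνQ hgN hg
    rw [← heq] at h1
    obtain ⟨x, hx, hxe⟩ := hνQ.surj h1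
    exact hgQ (hν.inj hgN (hQN hx) hxe.symm ▸ hx)
  by_cases hc : F.IsCentric P
  · obtain ⟨Q, hQ, hne⟩ := hstar hc
    obtain ⟨α, ⟨hα1, hα2⟩, hα3⟩ := SetLike.not_le_iff_exists.1 hne
    obtain ⟨g, hg, hge⟩ := mem_autInducedBy.1 hα1
    have hgN : g ∈ normalizerIn S Q := ⟨hg, mem_normalizer_of_aut hge⟩
    have hk : conjAut S Q ⟨g, hgN⟩ = α := MulEquiv.ext fun x => Subtype.ext (hge x).symm
    refine ⟨Q, hQ, g, mem_hat.2 ⟨hgN, hk ▸ hα2⟩, fun hgQ => hα3 ⟨⟨g, hgQ⟩, ?_⟩⟩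
    exact MulEquiv.ext fun x => Subtype.ext (hge x).symm
  · have : ∃ Q, F.IsConj P Q ∧ ¬ centralizerIn S Q ≤ Q := by
      by_contra hno
      push_neg at hno
      exact hc ⟨hP, hno⟩
    obtain ⟨Q, hQ, hne⟩ := this
    obtain ⟨g, hg, hgQ⟩ := SetLike.not_le_iff_exists.1 hne
    exact ⟨Q, hQ, g, le_hat_centralizer hg, hgQ⟩

end CfsgLib.Fusion
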