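import Cfsg.Agent.Fusion.Centric

/-!
Maps of a fusion system recorded by functions on the ambient group, which makes restriction and
composition definitional.
-/

set_option autoImplicit false

open Cfsg Cfsg.FusionSystem

namespace CfsgLib.Fusion

variable {Ω : Type*} [Group Ω] {S : Subgroup Ω} {F : FusionSystem S}

/-- `f` agrees on `U` with a map of `F` with source `U`. -/
def Mor (F : FusionSystem S) (U : Subgroup Ω) (f : Ω → Ω) : Prop :=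
  ∃ φ ∈ F.Hom U, ∀ x : U, φ x = f x

/-- `f` carries `A` onto `B`. -/
def Im (f : Ω → Ω) (A B : Subgroup Ω) : Prop := ∀ y : Ω, y ∈ B ↔ ∃ x ∈ A, f x = y

theorem Im.mem {f : Ω → Ω} {A B : Subgroup Ω} (h : Im f A B) {x : Ω} (hx : x ∈ A) : f x ∈ B :=
  (h _).2 ⟨x, hx, rfl⟩

theorem Im.surj {f : Ω → Ω} {A B : Subgroup Ω} (h : Im f A B) {y : Ω} (hy : y ∈ B) :
    ∃ x ∈ A, f x = y := (h y).1 hy

theorem Im.congr {f g : Ω → Ω} {A B : Subgroup Ω} (h : Im f A B) (e : ∀ x ∈ A, g x = f x) :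
    Im g A B := fun y => by
  rw [h y]
  exact ⟨fun ⟨x, hx, hxy⟩ => ⟨x, hx, (e x hx).trans hxy⟩,
    fun ⟨x, hx, hxy⟩ => ⟨x, hx, (e x hx).symm.trans hxy⟩⟩

theorem Im.comp {f g : Ω → Ω} {A B C : Subgroup Ω} (h : Im f A B) (h' : Im g B C) :
    Im (g ∘ f) A C := fun z => by
  rw [h' z]
  constructor
  · rintro ⟨y, hy, rfl⟩
    obtain ⟨x, hx, rfl⟩ := h.surj hy
    exact ⟨x, hx, rfl⟩
  · rintro ⟨x, hx, rfl⟩
    exact ⟨f x, h.mem hx, rfl⟩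

theorem Im.unique {f : Ω → Ω} {A B C : Subgroup Ω} (h : Im f A B) (h' : Im f A C) : B = C :=
  Subgroup.ext fun y => (h y).trans (h' y).symm

theorem im_id (A : Subgroup Ω) : Im id A A := fun y =>
  ⟨fun hy => ⟨y, hy, rfl⟩, fun ⟨_, hx, e⟩ => e ▸ hx⟩

namespace Mor

variable {U W : Subgroup Ω} {f g : Ω → Ω}

theorem le_S (h : Mor F U f) : U ≤ S := by obtain ⟨φ, hφ, -⟩ := h; exact le_of_mem_hom hφ

theorem mem_S (h : Mor F U f) {x : Ω} (hx : x ∈ U) : f x ∈ S := by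
  obtain ⟨φ, hφ, e⟩ := h
  exact Set.mem_of_eq_of_mem (e ⟨x, hx⟩).symm (apply_mem_S hφ _)

theorem map_mul (h : Mor F U f) {x y : Ω} (hx : x ∈ U) (hy : y ∈ U) : f (x * y) = f x * f y := by
  obtain ⟨φ, -, e⟩ := h
  rw [← e ⟨x, hx⟩, ← e ⟨y, hy⟩, ← φ.map_mul]
  exact (e (⟨x, hx⟩ * ⟨y, hy⟩)).symm

theorem map_one (h : Mor F U f) : f 1 = 1 := by
  obtain ⟨φ, -, e⟩ := h
  exact (e 1).symm.trans φ.map_one

theorem map_inv (h : Mor F U f) {x : Ω} (hx : x ∈ U) : f x⁻¹ = (f x)⁻¹ := by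
  obtain ⟨φ, -, e⟩ := h
  rw [← e ⟨x, hx⟩, ← φ.map_inv]
  exact (e ⟨x, hx⟩⁻¹).symm

theorem map_conj (h : Mor F U f) {x y : Ω} (hx : x ∈ U) (hy : y ∈ U) :
    f (x * y * x⁻¹) = f x * f y * (f x)⁻¹ := by
  rw [h.map_mul (mul_mem hx hy) (inv_mem hx), h.map_mul hx hy, h.map_inv hx]

theorem inj (h : Mor F U f) {x y : Ω} (hx : x ∈ U) (hy : y ∈ U) (e' : f x = f y) : x = y := by
  obtain ⟨φ, hφ, e⟩ := h
  rw [← e ⟨x, hx⟩, ← e ⟨y, hy⟩] at e'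
  exact congrArg Subtype.val (F.injective_of_mem hφ e')

theorem congr (h : Mor F U f) (e : ∀ x ∈ U, g x = f x) : Mor F U g := by
  obtain ⟨φ, hφ, e'⟩ := h
  exact ⟨φ, hφ, fun x => (e' x).trans (e x x.2).symm⟩

theorem mono (h : Mor F U f) (hWU : W ≤ U) : Mor F W f := by
  obtain ⟨φ, hφ, e⟩ := h
  exact ⟨_, restrict_mem hφ hWU, fun x => e _⟩

theorem comp (h : Mor F U f) (h' : Mor F W g) (hm : ∀ x ∈ U, f x ∈ W) : Mor F U (g ∘ f) := by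
  obtain ⟨φ, hφ, e⟩ := h
  obtain ⟨ψ, hψ, e'⟩ := h'
  have hm' : ∀ x : U, φ x ∈ W := fun x => Set.mem_of_eq_of_mem (e x) (hm x x.2)
  refine ⟨_, F.comp_mem hφ hψ hm', fun x => ?_⟩
  show ψ ⟨φ x, hm' x⟩ = g (f x)
  rw [e']
  exact congrArg g (e x)

theorem id_mor (hU : U ≤ S) : Mor F U id := ⟨_, subtype_mem hU, fun _ => rfl⟩

theorem conj_mor (hU : U ≤ S) {s : Ω} (hs : s ∈ S) : Mor F U (fun x => s * x * s⁻¹) :=
  ⟨_, F.conj_mem hU hs, fun _ => rfl⟩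

theorem of_mem {φ : U →* Ω} (hφ : φ ∈ F.Hom U) : ∃ f : Ω → Ω, Mor F U f ∧ ∀ x : U, f x = φ x := by
  classical
  refine ⟨fun x => if h : x ∈ U then φ ⟨x, h⟩ else x, ⟨φ, hφ, fun x => ?_⟩, fun x => ?_⟩
  · simp [x.2]
  · simp [x.2]

theorem exists_im (h : Mor F U f) (hWU : W ≤ U) : ∃ V : Subgroup Ω, Im f W V := by
  obtain ⟨φ, -, e⟩ := h
  refine ⟨(W.subgroupOf U).map φ, fun y => ⟨?_, ?_⟩⟩
  · rintro ⟨⟨x, hxU⟩, hxW, rfl⟩
    exact ⟨x, hxW, (e ⟨x, hxU⟩).symm⟩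
  · rintro ⟨x, hx, rfl⟩
    exact ⟨⟨x, hWU hx⟩, hx, e _⟩

theorem im_le_S (h : Mor F U f) (hWU : W ≤ U) {V : Subgroup Ω} (hi : Im f W V) : V ≤ S :=
  fun y hy => by
    obtain ⟨x, hx, rfl⟩ := hi.surj hy
    exact h.mem_S (hWU hx)

theorem exists_inv (h : Mor F U f) {V : Subgroup Ω} (hi : Im f U V) :
    ∃ g : Ω → Ω, Mor F V g ∧ Im g V U ∧ (∀ x ∈ U, g (f x) = x) ∧ ∀ y ∈ V, f (g y) = y := by
  obtain ⟨φ, hφ, e⟩ := h
  have hr : φ.range = V := by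
    ext y
    rw [hi y]
    constructor
    · rintro ⟨x, rfl⟩; exact ⟨x, x.2, (e x).symm⟩
    · rintro ⟨x, hx, rfl⟩; exact ⟨⟨x, hx⟩, e _⟩
  obtain ⟨ψ, hψ, hψr, h1, h2⟩ := CfsgLib.Fusion.exists_inv hφ hr
  obtain ⟨g, hg, hgψ⟩ := of_mem hψ
  have hgf : ∀ x ∈ U, g (f x) = x := fun x hx => by
    rw [show f x = φ ⟨x, hx⟩ from (e ⟨x, hx⟩).symm]
    exact (hgψ ⟨_, hr.le ⟨_, rfl⟩⟩).trans (h1 ⟨x, hx⟩ _)
  refine ⟨g, hg, fun x => ⟨fun hx => ⟨f x, hi.mem hx, hgf x hx⟩, ?_⟩, hgf, fun y hy => ?_⟩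
  · rintro ⟨y, hy, rfl⟩
    obtain ⟨x, hx, rfl⟩ := hi.surj hy
    rw [hgf x hx]; exact hx
  · obtain ⟨x, hx, rfl⟩ := hi.surj hy
    rw [hgf x hx]

theorem card_im (h : Mor F U f) (hWU : W ≤ U) {V : Subgroup Ω} (hi : Im f W V) :
    Nat.card V = Nat.card W := by
  refine (Nat.card_congr (Equiv.ofBijective (fun x : W => (⟨f x, hi.mem x.2⟩ : V)) ⟨?_, ?_⟩)).symm
  · intro x y hxy
    exact Subtype.ext (h.inj (hWU x.2) (hWU y.2) (congrArg Subtype.val hxy))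
  · rintro ⟨y, hy⟩
    obtain ⟨x, hx, rfl⟩ := hi.surj hy
    exact ⟨⟨x, hx⟩, rfl⟩

/-- Elements normalizing `A` go to elements normalizing the image of `A`. -/
theorem mem_normalizerIn (h : Mor F U f) {A B : Subgroup Ω} (hAU : A ≤ U) (hi : Im f A B)
    [Finite S] {x : Ω} (hx : x ∈ U) (hxA : x ∈ Subgroup.normalizer (A : Set Ω)) :
    f x ∈ normalizerIn S B := by
  refine ⟨h.mem_S hx, mem_normalizer_of_conj_mem (h.im_le_S hAU hi) fun y hy => ?_⟩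
  obtain ⟨a, ha, rfl⟩ := hi.surj hy
  rw [← h.map_conj hx (hAU ha)]
  exact hi.mem ((Subgroup.mem_normalizer_iff.1 hxA a).1 ha)

end Mor

theorem isConj_iff_mor {A B : Subgroup Ω} :
    F.IsConj A B ↔ ∃ f, Mor F A f ∧ Im f A B := by
  constructor
  · rintro ⟨φ, hφ, rfl⟩
    obtain ⟨f, hf, e⟩ := Mor.of_mem hφ
    refine ⟨f, hf, fun y => ⟨?_, ?_⟩⟩
    · rintro ⟨x, rfl⟩; exact ⟨x, x.2, e x⟩
    · rintro ⟨x, hx, rfl⟩; exact ⟨⟨x, hx⟩, (e ⟨x, hx⟩).symm⟩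
  · rintro ⟨f, ⟨φ, hφ, e⟩, hi⟩
    refine ⟨φ, hφ, ?_⟩
    ext y
    rw [hi y]
    constructor
    · rintro ⟨x, rfl⟩; exact ⟨x, x.2, (e x).symm⟩
    · rintro ⟨x, hx, rfl⟩; exact ⟨⟨x, hx⟩, e _⟩

theorem Mor.isConj {U A B : Subgroup Ω} {f : Ω → Ω} (h : Mor F U f) (hAU : A ≤ U)
    (hi : Im f A B) : F.IsConj A B := isConj_iff_mor.2 ⟨f, h.mono hAU, hi⟩

/-- An automorphism of the system as a function. -/
theorem exists_mor_of_aut {A : Subgroup Ω} (hA : A ≤ S) {α : MulAut A} (hα : α ∈ F.autGroup A) :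
    ∃ f, Mor F A f ∧ Im f A A ∧ ∀ x : A, f x = ((α x : A) : Ω) := by
  obtain ⟨f, hf, e⟩ := Mor.of_mem ((autGroup_carrier hA).1 hα)
  refine ⟨f, hf, fun y => ⟨fun hy => ?_, ?_⟩, e⟩
  · refine ⟨((α⁻¹ ⟨y, hy⟩ : A) : Ω), SetLike.coe_mem _, (e _).trans ?_⟩
    show ((α (α⁻¹ ⟨y, hy⟩) : A) : Ω) = y
    rw [MulAut.apply_inv_self]
  · rintro ⟨x, hx, rfl⟩
    exact Set.mem_of_eq_of_mem (e ⟨x, hx⟩) (SetLike.coe_mem _)

/-- A self-map as an automorphism of the system. -/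
theorem Mor.exists_aut {U A : Subgroup Ω} {f : Ω → Ω} (h : Mor F U f) (hAU : A ≤ U)
    (hi : Im f A A) : ∃ α ∈ F.autGroup A, ∀ x : A, ((α x : A) : Ω) = f x := by
  obtain ⟨φ, hφ, e⟩ := h.mono hAU
  have hr : φ.range = A := by
    ext y
    rw [hi y]
    constructor
    · rintro ⟨x, rfl⟩; exact ⟨x, x.2, (e x).symm⟩
    · rintro ⟨x, hx, rfl⟩; exact ⟨⟨x, hx⟩, e _⟩
  exact ⟨_, autOfRange_mem hφ hr, fun x => e x⟩

/-- An isomorphism of the system as a multiplicative equivalence. -/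
theorem Mor.exists_equiv {U A B : Subgroup Ω} {f : Ω → Ω} (h : Mor F U f) (hAU : A ≤ U)
    (hi : Im f A B) : ∃ e : A ≃* B, (∀ x : A, ((e x : B) : Ω) = f x) ∧
      (F.autGroup A).map (MulAut.congr e).toMonoidHom = F.autGroup B := by
  obtain ⟨φ, hφ, e⟩ := h.mono hAU
  have hr : φ.range = B := by
    ext y
    rw [hi y]
    constructor
    · rintro ⟨x, rfl⟩; exact ⟨x, x.2, (e x).symm⟩
    · rintro ⟨x, hx, rfl⟩; exact ⟨⟨x, hx⟩, e _⟩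
  exact ⟨isoRange φ (F.injective_of_mem hφ) hr, fun x => e x,
    map_autGroup_iso (le_of_mem_hom hφ) hφ _ fun _ => rfl⟩

/-- Receptivity for functions. -/
theorem receptive_mor {R R' N : Subgroup Ω} (hR' : F.IsReceptive R') {f : Ω → Ω}
    (hf : Mor F R f) (hi : Im f R R') (hN : ∀ g ∈ N, g ∈ S ∧ g ∈ Subgroup.normalizer (R : Set Ω) ∧
      ∃ h ∈ S, ∀ x ∈ R, f (g * x * g⁻¹) = h * f x * h⁻¹) :
    ∃ f', Mor F (N ⊔ R) f' ∧ ∀ x ∈ R, f' x = f x := by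
  obtain ⟨φ, hφ, e⟩ := hf
  have hr : φ.range = R' := by
    ext y
    rw [hi y]
    constructor
    · rintro ⟨x, rfl⟩; exact ⟨x, x.2, (e x).symm⟩
    · rintro ⟨x, hx, rfl⟩; exact ⟨⟨x, hx⟩, e _⟩
  have hle : N ⊔ R ≤ extender S R φ := by
    refine sup_le (fun g hg => ?_) (le_extender hφ)
    obtain ⟨hgS, hgR, h, hh, he⟩ := hN g hg
    refine mem_extender.2 ⟨hgS, hgR, h, hh, fun x hx => ?_⟩
    rw [e, e]
    exact he x x.2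
  obtain ⟨ψ, hψ, he⟩ := receptive_extend hR' hφ hr hle
  obtain ⟨f', hf', e'⟩ := Mor.of_mem hψ
  refine ⟨f', hf', fun x hx => ?_⟩
  exact (e' ⟨x, Subgroup.mem_sup_right hx⟩).trans ((he x hx _).trans (e _))

end CfsgLib.Fusion
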