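import Cfsg.Agent.Fusion.HGen.Mor
import Cfsg.Agent.Solvable.Basics

/-!
Stabilizers in automorphism groups, and the overgroup cut out by `O_p` of the automizer.
-/

set_option autoImplicit false
set_option linter.style.haveILetI false

open Cfsg Cfsg.FusionSystem

namespace CfsgLib.Fusion

variable {Ω : Type*} [Group Ω] {S : Subgroup Ω} {F : FusionSystem S}

/-- `O_p(Aut_F(A))` inside `Aut(A)`. -/
def coreAut (F : FusionSystem S) (p : ℕ) (A : Subgroup Ω) : Subgroup (MulAut A) :=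
  (pCore p (F.autGroup A)).map (F.autGroup A).subtype

theorem coreAut_map_le [Finite S] (p : ℕ) [Fact p.Prime] {A B : Subgroup Ω} (hA : A ≤ S)
    (e : A ≃* B) (he : (F.autGroup A).map (MulAut.congr e).toMonoidHom = F.autGroup B) :
    (coreAut F p A).map (MulAut.congr e).toMonoidHom ≤ coreAut F p B := by
  haveI : Finite A := finite_of_le hA
  haveI : Finite (MulAut A) := finite_mulAut
  let ε : F.autGroup A ≃* F.autGroup B :=
    ((MulAut.congr e).subgroupMap (F.autGroup A)).trans (MulEquiv.subgroupCongr he)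
  obtain ⟨hn, hp⟩ := CfsgLib.Solvable.pCore_spec (G := F.autGroup A) p
  have hle : (pCore p (F.autGroup A)).map ε.toMonoidHom ≤ pCore p (F.autGroup B) :=
    CfsgLib.Solvable.le_pCore (p := p) (hn.map _ ε.surjective) (hp.map _)
  rintro _ ⟨_, ⟨α, hα, rfl⟩, rfl⟩
  exact ⟨ε α, hle ⟨α, hα, rfl⟩, rfl⟩

/-- The elements of `N_S(A)` inducing an element of `O_p(Aut_F(A))` on `A`. -/
def hat (F : FusionSystem S) (p : ℕ) (A : Subgroup Ω) : Subgroup Ω :=
  ((coreAut F p A).comap (conjAut S A)).map (normalizerIn S A).subtype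

theorem mem_hat {p : ℕ} {A : Subgroup Ω} {g : Ω} :
    g ∈ hat F p A ↔ ∃ hg : g ∈ normalizerIn S A, conjAut S A ⟨g, hg⟩ ∈ coreAut F p A := by
  constructor
  · rintro ⟨⟨x, hx⟩, h, rfl⟩
    exact ⟨hx, h⟩
  · rintro ⟨hg, h⟩
    exact ⟨⟨g, hg⟩, h, rfl⟩

theorem hat_le_normalizerIn {p : ℕ} {A : Subgroup Ω} : hat F p A ≤ normalizerIn S A :=
  Subgroup.map_subtype_le _

theorem hat_map [Finite S] (p : ℕ) [Fact p.Prime] {U A B : Subgroup Ω} {f : Ω → Ω}
    (h : Mor F U f) (hAU : A ≤ U) (hi : Im f A B) {g : Ω} (hgU : g ∈ U) (hg : g ∈ hat F p A) :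
    f g ∈ hat F p B := by
  obtain ⟨e, hev, he⟩ := h.exists_equiv hAU hi
  obtain ⟨hgN, hgc⟩ := mem_hat.1 hg
  have hfN := h.mem_normalizerIn hAU hi hgU hgN.2
  refine mem_hat.2 ⟨hfN, ?_⟩
  have hk : conjAut S B ⟨f g, hfN⟩ = MulAut.congr e (conjAut S A ⟨g, hgN⟩) := by
    refine MulEquiv.ext fun y => ?_
    obtain ⟨x, rfl⟩ := e.surjective y
    refine Subtype.ext ?_
    show f g * ((e x : B) : Ω) * (f g)⁻¹ =
      ((e (conjAut S A ⟨g, hgN⟩ (e.symm (e x))) : B) : Ω)
    rw [e.symm_apply_apply, hev, hev]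
    exact (h.map_conj hgU (hAU x.2)).symm
  rw [hk]
  exact coreAut_map_le p (hAU.trans h.le_S) e he ⟨_, hgc, rfl⟩

theorem le_hat_centralizer {p : ℕ} {A : Subgroup Ω} :
    centralizerIn S A ≤ hat F p A := by
  intro g hg
  have hgN := centralizerIn_le_normalizerIn A hg
  refine mem_hat.2 ⟨hgN, ?_⟩
  have h1 : conjAut S A ⟨g, hgN⟩ = 1 := MonoidHom.mem_ker.1 (mem_ker_conjAut.2 hg.2)
  rw [h1]
  exact one_mem _

theorem le_hat [Finite S] (p : ℕ) [Fact p.Prime] (hS : IsPGroup p S) {A : Subgroup Ω}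
    (hA : A ≤ S) : A ≤ hat F p A := by
  intro g hg
  haveI : Finite A := finite_of_le hA
  haveI : Finite (MulAut A) := finite_mulAut
  refine mem_hat.2 ⟨le_normalizerIn hA hg, ?_⟩
  refine ⟨⟨_, inn_le_autGroup hA ⟨⟨g, hg⟩, rfl⟩⟩, ?_, MulEquiv.ext fun x => Subtype.ext rfl⟩
  have hp : IsPGroup p ((Inn A).subgroupOf (F.autGroup A)) := by
    have h1 : IsPGroup p (Inn A) := by
      rw [inn_eq_autInducedBy, autInducedBy_eq_range]
      have h2 : IsPGroup p ↥(A ⊓ Subgroup.normalizer (A : Set Ω)) :=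
        isPGroup_of_le hS (inf_le_left.trans hA)
      exact h2.of_surjective _ (conjAut A A).rangeRestrict_surjective
    exact h1.comap_of_injective _ Subtype.val_injective
  exact CfsgLib.Solvable.le_pCore (p := p) (inn_subgroupOf_normal A) hp
    (show (⟨_, _⟩ : F.autGroup A) ∈ (Inn A).subgroupOf (F.autGroup A) from ⟨⟨g, hg⟩, rfl⟩)

/-- The elements of `Aut_F(R)` stabilizing `X`. -/
def stabAut (F : FusionSystem S) (R X : Subgroup Ω) : Subgroup (F.autGroup R) where
  carrier := {γ | ∀ x : R, ((x : Ω) ∈ X ↔ (((γ : MulAut R) x : R) : Ω) ∈ X)}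
  one_mem' := fun _ => Iff.rfl
  mul_mem' := fun {a b} ha hb x => by
    show _ ↔ (((a : MulAut R) ((b : MulAut R) x) : R) : Ω) ∈ X
    exact (hb x).trans (ha _)
  inv_mem' := fun {a} ha x => by
    show _ ↔ ((((a : MulAut R))⁻¹ x : R) : Ω) ∈ X
    have h := ha ((a : MulAut R)⁻¹ x)
    rw [MulAut.apply_inv_self] at h
    exact h.symm

theorem mem_stabAut_of_im {R X : Subgroup Ω} (hXR : X ≤ R) {γ : F.autGroup R} {f : Ω → Ω}
    (hi : Im f X X) (he : ∀ x : R, (((γ : MulAut R) x : R) : Ω) = f x) :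
    γ ∈ stabAut F R X := fun x => by
  constructor
  · intro hx
    rw [he]; exact hi.mem hx
  · intro hx
    obtain ⟨y, hy, hyx⟩ := hi.surj hx
    have : (γ : MulAut R) ⟨y, hXR hy⟩ = (γ : MulAut R) x :=
      Subtype.ext ((he _).trans hyx)
    rw [← (γ : MulAut R).injective this]
    exact hy

/-- The restriction to `X` of the stabilizer of `X`. -/
def restrictStab (F : FusionSystem S) (R X : Subgroup Ω) (hX : X ≤ R) :
    stabAut F R X →* MulAut X where
  toFun γ :=
    { toFun := fun x => ⟨((((γ : F.autGroup R) : MulAut R) ⟨x, hX x.2⟩ : R) : Ω),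
        (γ.2 ⟨x, hX x.2⟩).1 x.2⟩
      invFun := fun x => ⟨(((((γ : F.autGroup R) : MulAut R))⁻¹ ⟨x, hX x.2⟩ : R) : Ω),
        ((inv_mem γ.2 : (γ : F.autGroup R)⁻¹ ∈ stabAut F R X) ⟨x, hX x.2⟩).1 x.2⟩
      left_inv := fun x => Subtype.ext (by
        show ((((γ : F.autGroup R) : MulAut R)⁻¹ (((γ : F.autGroup R) : MulAut R) ⟨x, hX x.2⟩) : R) : Ω) = x
        rw [MulAut.inv_apply_self])
      right_inv := fun x => Subtype.ext (by
        show (((((γ : F.autGroup R) : MulAut R)) (((γ : F.autGroup R) : MulAut R)⁻¹ ⟨x, hX x.2⟩) : R) : Ω) = x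
        rw [MulAut.apply_inv_self])
      map_mul' := fun x y => Subtype.ext (by
        show ((((γ : F.autGroup R) : MulAut R) (⟨x, hX x.2⟩ * ⟨y, hX y.2⟩) : R) : Ω) = _
        rw [map_mul]; rfl) }
  map_one' := MulEquiv.ext fun _ => Subtype.ext rfl
  map_mul' _ _ := MulEquiv.ext fun _ => Subtype.ext rfl

theorem coe_restrictStab {R X : Subgroup Ω} (hX : X ≤ R) (γ : stabAut F R X) (x : X) :
    ((restrictStab F R X hX γ x : X) : Ω) =
      ((((γ : F.autGroup R) : MulAut R) ⟨x, hX x.2⟩ : R) : Ω) := rfl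

theorem restrictStab_mem {R X : Subgroup Ω} (hR : R ≤ S) (hX : X ≤ R) (γ : stabAut F R X) :
    restrictStab F R X hX γ ∈ F.autGroup X :=
  (autGroup_carrier (hX.trans hR)).2
    (restrict_mem_of_eq ((autGroup_carrier hR).1 (γ : F.autGroup R).2) hX fun _ => rfl)

/-- The automorphisms of `X` induced by `S`, seen in the stabilizer. -/
def innerStab (F : FusionSystem S) (R X : Subgroup Ω) : Subgroup (stabAut F R X) :=
  (autInducedBy S R).comap ((F.autGroup R).subtype.comp (stabAut F R X).subtype)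

theorem mem_innerStab {R X : Subgroup Ω} {γ : stabAut F R X} :
    γ ∈ innerStab F R X ↔
      ∃ h ∈ S, ∀ x : R, ((((γ : F.autGroup R) : MulAut R) x : R) : Ω) = h * x * h⁻¹ :=
  mem_autInducedBy

theorem isPGroup_innerStab {p : ℕ} (hS : IsPGroup p S) (R X : Subgroup Ω) :
    IsPGroup p (innerStab F R X) :=
  (isPGroup_autInducedBy hS R).comap_of_injective _
    ((F.autGroup R).subtype_injective.comp (stabAut F R X).subtype_injective)

/-- An element inducing an element of the stabilizer normalizes `X`. -/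
theorem mem_normalizer_of_innerStab [Finite S] {R X : Subgroup Ω} (hR : R ≤ S) (hX : X ≤ R)
    {γ : stabAut F R X} {h : Ω}
    (he : ∀ x : R, ((((γ : F.autGroup R) : MulAut R) x : R) : Ω) = h * x * h⁻¹) :
    h ∈ Subgroup.normalizer (X : Set Ω) ∧ h ∈ Subgroup.normalizer (R : Set Ω) := by
  refine ⟨mem_normalizer_of_conj_mem (hX.trans hR) fun x hx => ?_,
    mem_normalizer_of_conj_mem hR fun x hx => ?_⟩
  · rw [← he ⟨x, hX hx⟩]
    exact (γ.2 ⟨x, hX hx⟩).1 hx
  · rw [← he ⟨x, hx⟩]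
    exact SetLike.coe_mem _

/-- Some image of `X` under `Aut_F(R)` has a stabilizer in `Aut_S(R)` which is Sylow in the
stabilizer in `Aut_F(R)`. -/
theorem exists_sylow_stab [Finite S] (p : ℕ) [Fact p.Prime] (hS : IsPGroup p S) {R X : Subgroup Ω}
    (hR : F.IsFullyAutomized p R) (hX : X ≤ R) :
    ∃ (f : Ω → Ω) (Z : Subgroup Ω) (T : Sylow p (stabAut F R Z)), Mor F R f ∧ Im f R R ∧
      Im f X Z ∧ Z ≤ R ∧ (T : Subgroup (stabAut F R Z)) = innerStab F R Z := by
  have hRS := hR.1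
  haveI : Finite R := finite_of_le hRS
  haveI : Finite (MulAut R) := finite_mulAut
  obtain ⟨RR, hRR⟩ := hR.2
  obtain ⟨T0⟩ : Nonempty (Sylow p (stabAut F R X)) := inferInstance
  obtain ⟨TT, hTT⟩ := (T0.2.map (stabAut F R X).subtype).exists_le_sylow
  obtain ⟨c, hc⟩ := MulAction.exists_smul_eq (F.autGroup R) TT RR
  obtain ⟨f, hf, hfi, hfe⟩ := exists_mor_of_aut hRS c.2
  obtain ⟨Z, hZ⟩ := hf.exists_im hX
  have hZR : Z ≤ R := fun z hz => by
    obtain ⟨x, hx, rfl⟩ := hZ.surj hz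
    exact hfi.mem (hX hx)
  have hstab : ∀ γ : F.autGroup R, γ ∈ stabAut F R X ↔ c * γ * c⁻¹ ∈ stabAut F R Z := by
    have key : ∀ x : R, ((x : Ω) ∈ X ↔ (((c : MulAut R) x : R) : Ω) ∈ Z) := fun x => by
      constructor
      · intro hx
        rw [← hfe]; exact hZ.mem hx
      · intro hx
        obtain ⟨y, hy, hyx⟩ := hZ.surj hx
        rw [hfe ⟨y, hX hy⟩] at hyx
        rw [← (c : MulAut R).injective (Subtype.ext hyx)]
        exact hy
    have kc : ∀ (γ : F.autGroup R) (x : R), (((c * γ * c⁻¹ : F.autGroup R) : MulAut R))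
        ((c : MulAut R) x) = (c : MulAut R) ((γ : MulAut R) x) := fun γ x => by
      show (c : MulAut R) ((γ : MulAut R) ((c : MulAut R)⁻¹ ((c : MulAut R) x))) = _
      rw [MulAut.inv_apply_self]
    intro γ
    constructor
    · intro h y
      obtain ⟨x, rfl⟩ := (c : MulAut R).surjective y
      rw [kc, ← key, ← key]
      exact h x
    · intro h x
      rw [key x, key ((γ : MulAut R) x), ← kc]
      exact h _
  let ψ : stabAut F R X →* stabAut F R Z :=
    ((MulAut.conj c).toMonoidHom.comp (stabAut F R X).subtype).codRestrict _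
      fun γ => (hstab γ).1 γ.2
  have hψ : Function.Injective ψ := fun a b h => by
    exact Subtype.ext ((MulAut.conj c).injective (congrArg Subtype.val h))
  have hsurj : Function.Surjective ψ := fun δ => by
    refine ⟨⟨c⁻¹ * δ * c, (hstab _).2 ?_⟩, Subtype.ext ?_⟩
    · simpa [mul_assoc] using δ.2
    · show c * (c⁻¹ * (δ : F.autGroup R) * c) * c⁻¹ = δ
      group
  let T1 : Sylow p (stabAut F R Z) := T0.mapSurjective hsurj
  have hle : (T1 : Subgroup (stabAut F R Z)) ≤ innerStab F R Z := by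
    rintro _ ⟨γ, hγ, rfl⟩
    have h1 : c * (γ : F.autGroup R) * c⁻¹ ∈ (RR : Subgroup (F.autGroup R)) := by
      rw [← hc, Sylow.coe_subgroup_smul]
      exact ⟨_, hTT ⟨γ, hγ, rfl⟩, rfl⟩
    rw [hRR] at h1
    exact h1
  exact ⟨f, Z, T1, hf, hfi, hZ, hZR, (T1.3 (isPGroup_innerStab hS R Z) hle).symm⟩

/-- The Sylow subgroups of a normal subgroup come from those of the group. -/
theorem exists_sylow_normal {G : Type*} [Group G] [Finite G] {p : ℕ} [Fact p.Prime]
    (T : Sylow p G) (K : Subgroup G) [K.Normal] :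
    ∃ TK : Sylow p K, (TK : Subgroup K).map K.subtype = (T : Subgroup G) ⊓ K := by
  have hp : IsPGroup p ((T : Subgroup G).subgroupOf K) :=
    T.2.comap_of_injective _ K.subtype_injective
  obtain ⟨Q, hQ⟩ := hp.exists_le_sylow
  obtain ⟨P, hP⟩ := (Q.2.map K.subtype).exists_le_sylow
  obtain ⟨g, hg⟩ := MulAction.exists_smul_eq G P T
  have hsub : (Q : Subgroup K).map ((MulAut.conjNormal g : MulAut K)).toMonoidHom ≤
      (T : Subgroup G).subgroupOf K := by
    rintro _ ⟨x, hx, rfl⟩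
    rw [Subgroup.mem_subgroupOf, ← hg, Sylow.coe_subgroup_smul]
    exact ⟨_, hP ⟨x, hx, rfl⟩, (MulAut.conjNormal_apply g x).symm⟩
  have hcard : Nat.card (Q : Subgroup K) ≤ Nat.card ((T : Subgroup G).subgroupOf K) := by
    rw [Nat.card_congr (Subgroup.equivMapOfInjective _ _
      (MulAut.conjNormal g : MulAut K).injective).toEquiv]
    exact Subgroup.card_le_of_le hsub
  refine ⟨Q, ?_⟩
  rw [← Subgroup.eq_of_le_of_card_ge hQ hcard, Subgroup.subgroupOf_map_subtype]

/-- A homomorphism into a `p`-group is determined on a Sylow subgroup up to surjectivity. -/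
theorem map_sylow_eq {G H : Type*} [Group G] [Finite G] [Group H] {p : ℕ} [Fact p.Prime]
    (T : Sylow p G) (f : G →* H) (hf : IsPGroup p f.range) :
    (T : Subgroup G).map f = f.range := by
  refine le_antisymm (Subgroup.map_le_range _ _) ?_
  haveI : Finite f.range := Finite.of_surjective _ f.rangeRestrict_surjective
  obtain ⟨k, hk⟩ := hf.index ((T : Subgroup G).map f.rangeRestrict)
  have hdvd := Subgroup.index_map_dvd (T : Subgroup G) f.rangeRestrict_surjective
  have h0 : k = 0 := by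
    by_contra h
    exact T.not_dvd_index ((dvd_pow_self p h).trans (hk ▸ hdvd))
  rw [h0, pow_zero, Subgroup.index_eq_one] at hk
  rintro y ⟨x, rfl⟩
  obtain ⟨t, ht, htx⟩ := hk.ge (Subgroup.mem_top (f.rangeRestrict x))
  exact ⟨t, ht, congrArg Subtype.val htx⟩

end CfsgLib.Fusion
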